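import Cfsg.Agent.KFacts.M24Pair.Letters

/-!
# Double centralizers `C_K(C_K(x_r, x_s))` of adjacent pairs of root involutions in `K = M24`

`adj_ij_jk`: an element commuting with `C_K(X i j, X j k)` is one of the words of the list
  (numbers of letters as in
`Letters`: `12 13 14 15 23 24 25 34 35 45 = 0 … 9`). For `i = 1` the words are those of the
  dihedral group
`⟨X 1 j, X j k⟩`, for `i ≥ 2` those of the group `⟨X i j, X j k, X 1 j, X 1 k⟩` of order 32.
-/

set_option autoImplicit false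
set_option Elab.async false

namespace Cfsg.Agent.KFacts.M24Pair.Adj

open Cfsg Cfsg.Agent.KFacts.M24Pair.Cent Cfsg.Agent.KFacts.M24Pair.Letters

/-- `|C_K(X13, X34)| = 192`, double centralizer of order 8 -/
theorem adj_13_34 (g : M24) (hg : ∀ c : M24, (∀ r ∈ [1, 7], c * xx r = xx r * c) → c * g = g * c) :
    ∃ w ∈ ([[], [1], [2], [7], [1, 2], [1, 7], [2, 7], [1, 2, 7]] : List (List ℕ)), g = ev w :=
  dcent (rs := [1, 7])
    (cs := [918071941758313481723739687781484595, 885875541730459945814987687287071812])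
    (data := [(1, [[0]]), (17, [[0]]), (13, [[1]])])
    (wd := [(0, [0, 0, 1]), (0, []), (0, [1]), (1, [0, 0, 1]), (0, [0, 1, 1]), (0, [1, 1, 1]), (2,
      [0, 0, 0]), (2, [0, 0]), (1, [0, 1, 1]), (0, [1, 1]), (1, [1, 0, 1]), (2, [1, 1, 0, 0]), (2,
      [0, 1, 0, 0]), (2, []), (1, [1, 1, 1]), (2, [1, 0, 0]), (2, [1, 0]), (1, []), (0, [0, 1]),
      (0, [1, 0, 1]), (2, [0]), (1, [1, 1]), (1, [0, 1]), (1, [1])])
    (by decide +kernel) (by decide +kernel) g hg

/-- `|C_K(X13, X35)| = 192`, double centralizer of order 8 -/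
theorem adj_13_35 (g : M24) (hg : ∀ c : M24, (∀ r ∈ [1, 8], c * xx r = xx r * c) → c * g = g * c) :
    ∃ w ∈ ([[], [1], [3], [8], [1, 3], [1, 8], [3, 8], [1, 3, 8]] : List (List ℕ)), g = ev w :=
  dcent (rs := [1, 8])
    (cs := [437791455892242535833990463731747909, 444638612075869631019004376570907810])
    (data := [(0, [[1, 0, 1]]), (3, [[1, 0, 1]]), (6, [[1, 0, 0]])])
    (wd := [(0, []), (0, [1, 0, 0]), (0, [1]), (1, []), (0, [0, 0, 0]), (0, [0]), (2, []), (2, [0,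
      0, 1]), (1, [0, 0, 0]), (0, [0, 0]), (1, [0, 1]), (2, [0]), (2, [0, 0, 0]), (2, [0, 1]), (1,
      [0]), (2, [1]), (2, [1, 0, 0, 0]), (1, [1, 0, 0]), (0, [0, 0, 1]), (0, [0, 1]), (2, [0, 0]),
      (1, [0, 0]), (1, [0, 0, 1]), (1, [1])])
    (by decide +kernel) (by decide +kernel) g hg

/-- `|C_K(X14, X45)| = 192`, double centralizer of order 8 -/
theorem adj_14_45 (g : M24) (hg : ∀ c : M24, (∀ r ∈ [2, 9], c * xx r = xx r * c) → c * g = g * c) :
    ∃ w ∈ ([[], [2], [3], [9], [2, 3], [2, 9], [3, 9], [2, 3, 9]] : List (List ℕ)), g = ev w :=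
  dcent (rs := [2, 9])
    (cs := [587509349577576295015563385744447176, 789448000373251678849344582179174513])
    (data := [(8, [[1, 0]]), (21, [[1, 0]]), (16, [[0]])])
    (wd := [(0, [1, 0, 1]), (0, [1]), (1, [1, 0, 1]), (0, [1, 1]), (0, [0, 0, 1]), (1, [1]), (2,
      [0, 1]), (2, [1, 0, 1]), (0, []), (1, [0, 0, 1]), (1, [0, 1]), (2, [1, 0, 0, 1]), (2, [1, 0,
      1, 0, 0, 1]), (2, [0, 0, 1]), (1, [0, 1, 1]), (2, [1]), (2, []), (0, [0, 1, 1]), (0, [0]),
      (1, [0]), (2, [0, 1, 0, 0, 1]), (1, []), (0, [0, 1]), (1, [1, 1])])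
    (by decide +kernel) (by decide +kernel) g hg

/-- `|C_K(X24, X45)| = 32`, double centralizer of order 32 -/
theorem adj_24_45 (g : M24) (hg : ∀ c : M24, (∀ r ∈ [5, 9], c * xx r = xx r * c) → c * g = g * c) :
    ∃ w ∈ ([[], [2], [3], [5], [6], [9], [2, 3], [2, 5], [2, 6], [2, 9], [3, 5], [3, 6], [3, 9],
      [5, 6], [5, 9], [6, 9], [2, 3, 5], [2, 3, 6], [2, 3, 9], [2, 5, 6], [2, 5, 9], [2, 6, 9],
      [3, 5, 6], [3, 5, 9], [3, 6, 9], [5, 6, 9], [2, 3, 5, 6], [2, 3, 5, 9], [2, 3, 6, 9], [2, 5,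
      6, 9], [3, 5, 6, 9], [2, 3, 5, 6, 9]] : List (List ℕ)), g = ev w :=
  dcent (rs := [5, 9])
    (cs := [605284988783836599218001804924586016, 605287105659226257847468618112603137,
      218490083647402982823691911264516209])
    (data := [(0, [[0]]), (2, [[0]]), (4, [[0, 1], [2, 0, 0]]), (6, [[2, 1, 0, 0]]), (9, [[0, 1],
      [2, 0, 0]])])
    (wd := [(0, []), (0, [1]), (1, []), (0, [2, 1]), (2, []), (1, [1]), (3, []), (3, [1]), (2,
      [1]), (4, []), (4, [0]), (3, [0, 0, 0]), (3, [2, 0]), (3, [1, 0]), (1, [2]), (3, [0, 0]),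
      (3, [0]), (0, [2]), (2, [2]), (4, [2]), (3, [2]), (4, [1]), (2, [0]), (1, [2, 1])])
    (by decide +kernel) (by decide +kernel) g hg

/-- `|C_K(X34, X45)| = 32`, double centralizer of order 32 -/
theorem adj_34_45 (g : M24) (hg : ∀ c : M24, (∀ r ∈ [7, 9], c * xx r = xx r * c) → c * g = g * c) :
    ∃ w ∈ ([[], [2], [3], [7], [8], [9], [2, 3], [2, 7], [2, 8], [2, 9], [3, 7], [3, 8], [3, 9],
      [7, 8], [7, 9], [8, 9], [2, 3, 7], [2, 3, 8], [2, 3, 9], [2, 7, 8], [2, 7, 9], [2, 8, 9],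
      [3, 7, 8], [3, 7, 9], [3, 8, 9], [7, 8, 9], [2, 3, 7, 8], [2, 3, 7, 9], [2, 3, 8, 9], [2, 7,
      8, 9], [3, 7, 8, 9], [2, 3, 7, 8, 9]] : List (List ℕ)), g = ev w :=
  dcent (rs := [7, 9])
    (cs := [895322112351893729754939324291614752, 876782146671652995398871962066635922,
      610956390715471154959104471240053761])
    (data := [(18, [[0], [2]]), (19, [[0], [2]]), (3, [[0, 1]]), (6, [[1, 1]]), (14, [[0, 1]])])
    (wd := [(0, [2, 1]), (0, [1]), (1, [2, 1]), (2, []), (0, [1, 1]), (1, [1]), (3, []), (3, [0]),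
      (2, [0]), (1, [1, 1]), (4, [0]), (3, [2, 1, 0]), (3, [1]), (3, [2, 1]), (4, []), (3, [2]),
      (3, [1, 0]), (2, [2]), (0, []), (1, []), (3, [2, 0]), (4, [0, 2]), (2, [0, 2]), (4, [2])])
    (by decide +kernel) (by decide +kernel) g hg

end Cfsg.Agent.KFacts.M24Pair.Adj
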