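import Cfsg.Agent.SporadicStructure.M24El

/-!
# Centralizers in `Cfsg.M24` of explicit lists of permutations, by kernel computation

`mem_of_comm`: if the Boolean check `chk cs data wd L` succeeds, then every element of `M24` which
commutes with the elements `el c`, `c ∈ cs`, is `el P` for a member `P` of the list `L`.
`data` lists, for every orbit of `⟨cs⟩` on the 24 points, a representative and words fixing it;
`wd` gives for every point the number of its representative and a word moving the representative to
the point. Any number of orbits is allowed.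
-/

set_option autoImplicit false

namespace Cfsg.Agent.KFacts.M24Pair.Cent

open Cfsg Cfsg.Agent.SporadicA.GolayBase Cfsg.Agent.SporadicA.GolayPerm
open Cfsg.Agent.SporadicStructure.M24El

/-- The image of the index `j` under the word `w` in the list `cs`. -/
def ap (cs : List ℕ) (w : List ℕ) (j : ℕ) : ℕ := w.foldr (fun k i => papp (cs.getD k idP) i) j

theorem ap_lt {cs : List ℕ} (hcs : ∀ c ∈ cs, ok c = true) (w : List ℕ) {j : ℕ} (hj : j < 24) :
    ap cs w j < 24 := by
  induction w with
  | nil => exact hj
  | cons k w ih => exact papp_lt (ok_iff.1 (ok_getD hcs k)).1 ih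

/-- The index of the image of point number `j`. -/
def im (g : M24) (j : ℕ) : ℕ := idx ((g : Equiv.Perm GolayPt) (pt j))

theorem im_lt (g : M24) (j : ℕ) : im g j < 24 := idx_lt _

theorem im_papp {c : ℕ} (hc : ok c = true) (g : M24) (hg : el c * g = g * el c) {j : ℕ}
    (hj : j < 24) : im g (papp c j) = papp c (im g j) := by
  have h1 : pt (papp c j) = el c • pt j := by rw [el_smul_pt hc, idx_pt hj]
  have h2 : (g : Equiv.Perm GolayPt) (pt (papp c j)) = el c • (g • pt j) := by
    show g • pt (papp c j) = _
    rw [h1, ← mul_smul, ← mul_smul, hg]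
  unfold im
  rw [h2, idx_el_smul hc]
  rfl

theorem im_ap {cs : List ℕ} (hcs : ∀ c ∈ cs, ok c = true) (g : M24)
    (hg : ∀ c ∈ cs, el c * g = g * el c) (w : List ℕ) {j : ℕ} (hj : j < 24) :
    im g (ap cs w j) = ap cs w (im g j) := by
  induction w with
  | nil => rfl
  | cons k w ih =>
    show im g (papp (cs.getD k idP) (ap cs w j)) = papp (cs.getD k idP) (ap cs w (im g j))
    rw [← ih]
    refine im_papp (ok_getD hcs k) g ?_ (ap_lt hcs w hj)
    by_cases hk : k < cs.length
    · rw [List.getD_eq_getElem _ _ hk]
      exact hg _ (List.getElem_mem hk)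
    · rw [List.getD_eq_default _ _ (by omega), el_idP, one_mul, mul_one]

/-- The packed permutation with images `q` of the representatives. -/
def build (cs : List ℕ) (wd : List (ℕ × List ℕ)) (q : List ℕ) : ℕ :=
  pack (wd.map fun p => ap cs p.2 (q.getD p.1 0))

/-- All choices from the lists. -/
def search (f : List ℕ → Bool) : List (List ℕ) → List ℕ → Bool
  | [], q => f q
  | c :: cs, q => c.all fun a => search f cs (q ++ [a])

theorem search_sound (f : List ℕ → Bool) :
    ∀ (cs : List (List ℕ)) (q r : List ℕ), search f cs q = true →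
      List.Forall₂ (fun a c => a ∈ c) r cs → f (q ++ r) = true := by
  intro cs
  induction cs with
  | nil =>
    intro q r h hr
    cases hr
    rw [List.append_nil]
    exact h
  | cons c cs ih =>
    intro q r h hr
    cases hr with
    | cons ha hr =>
      rename_i a r
      have h1 := List.all_eq_true.1 h a ha
      have h2 := ih (q ++ [a]) r h1 hr
      rwa [List.append_assoc] at h2

/-- The candidates for the image of a representative. -/
def cand (cs : List ℕ) (d : ℕ × List (List ℕ)) : List ℕ :=
  (List.range 24).filter fun q => d.2.all fun w => Nat.beq (ap cs w q) q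

/-- Whether the words of `wd` lead to the points. -/
def wdOk (cs : List ℕ) (data : List (ℕ × List (List ℕ))) (wd : List (ℕ × List ℕ)) : Bool :=
  Nat.beq wd.length 24 && (List.range 24).all fun j =>
    Nat.beq (ap cs (wd.getD j (0, [])).2 (data.getD (wd.getD j (0, [])).1 (0, [])).1) j &&
      Nat.blt (wd.getD j (0, [])).1 data.length

/-- Whether the words of `data` fix the representatives. -/
def stOk (cs : List ℕ) (data : List (ℕ × List (List ℕ))) : Bool :=
  data.all fun d => Nat.blt d.1 24 && d.2.all fun w => Nat.beq (ap cs w d.1) d.1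

/-- The test of a choice of images. -/
def test (cs : List ℕ) (wd : List (ℕ × List ℕ)) (L : List ℕ) (q : List ℕ) : Bool :=
  !(ok (build cs wd q)) || L.any (Nat.beq (build cs wd q))

/-- The complete check. -/
def chk (cs : List ℕ) (data : List (ℕ × List (List ℕ))) (wd : List (ℕ × List ℕ)) (L : List ℕ) :
    Bool :=
  cs.all ok && wdOk cs data wd && stOk cs data && search (test cs wd L) (data.map (cand cs)) []

theorem ok_packOf (g : M24) : ok (packOf (g : Equiv.Perm GolayPt)) = true := by
  refine ok_iff.2 ⟨isPerm_packOf _, isAut_of_mem_M24 (isPerm_packOf _) ?_⟩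
  rw [permOf_packOf]
  exact g.2

theorem el_packOf (g : M24) : el (packOf (g : Equiv.Perm GolayPt)) = g := by
  apply Subtype.ext
  rw [coe_el (ok_packOf g), permOf_packOf]

/-- **Centralizers by computation.** -/
theorem mem_of_comm {cs : List ℕ} {data : List (ℕ × List (List ℕ))} {wd : List (ℕ × List ℕ)}
    {L : List ℕ} (h : chk cs data wd L = true) (g : M24)
    (hg : ∀ c ∈ cs, el c * g = g * el c) : ∃ P ∈ L, ok P = true ∧ g = el P := by
  unfold chk at h
  rw [Bool.and_eq_true, Bool.and_eq_true, Bool.and_eq_true] at h
  obtain ⟨⟨⟨h1, h2⟩, h3⟩, h4⟩ := h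
  have hcs : ∀ c ∈ cs, ok c = true := fun c hc => List.all_eq_true.1 h1 c hc
  unfold wdOk at h2
  rw [Bool.and_eq_true] at h2
  have hlen : wd.length = 24 := Nat.eq_of_beq_eq_true h2.1
  have hst : ∀ d ∈ data, d.1 < 24 ∧ ∀ w ∈ d.2, ap cs w d.1 = d.1 := by
    intro d hd
    have h5 := List.all_eq_true.1 h3 d hd
    rw [Bool.and_eq_true] at h5
    exact ⟨Nat.blt_eq.mp h5.1, fun w hw => Nat.eq_of_beq_eq_true (List.all_eq_true.1 h5.2 w hw)⟩
  set q : List ℕ := data.map fun d => im g d.1 with hq
  have hforall : List.Forall₂ (fun a c => a ∈ c) q (data.map (cand cs)) := by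
    rw [hq, List.forall₂_map_left_iff, List.forall₂_map_right_iff, List.forall₂_same]
    intro d hd
    unfold cand
    rw [List.mem_filter]
    refine ⟨List.mem_range.2 (im_lt g _), List.all_eq_true.2 fun w hw => ?_⟩
    obtain ⟨h5, h6⟩ := hst d hd
    have h7 := im_ap hcs g hg w h5
    rw [h6 w hw] at h7
    rw [← h7]
    exact Nat.beq_refl _
  have htest := search_sound _ _ _ _ h4 hforall
  rw [List.nil_append] at htest
  have hbuild : build cs wd q = packOf (g : Equiv.Perm GolayPt) := by
    unfold build packOf
    congr 1
    apply List.ext_getElem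
    · rw [List.length_map, List.length_map, List.length_range, hlen]
    · intro i hi1 hi2
      rw [List.length_map] at hi1
      rw [List.getElem_map, List.getElem_map, List.getElem_range]
      have hi : i < 24 := by omega
      have h5 := List.all_eq_true.1 h2.2 i (List.mem_range.2 hi)
      rw [Bool.and_eq_true] at h5
      have h6 := Nat.eq_of_beq_eq_true h5.1
      have h7 : (wd.getD i (0, [])).1 < data.length := Nat.blt_eq.mp h5.2
      rw [List.getD_eq_getElem _ _ hi1] at h6 h7
      have h8 : q.getD (wd[i]).1 0 = im g (data.getD (wd[i]).1 (0, [])).1 := by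
        rw [List.getD_eq_getElem _ _ (by rw [hq, List.length_map]; exact h7),
          List.getD_eq_getElem _ _ h7]
        simp only [hq, List.getElem_map]
      have h9 : (data.getD (wd[i]).1 (0, [])).1 < 24 := by
        rw [List.getD_eq_getElem _ _ h7]
        exact (hst _ (List.getElem_mem h7)).1
      rw [h8, ← im_ap hcs g hg _ h9, h6]
      rfl
  unfold test at htest
  rw [hbuild, ok_packOf g, Bool.not_true, Bool.false_or] at htest
  obtain ⟨P, hP, hPe⟩ := List.any_eq_true.1 htest
  have h10 := Nat.eq_of_beq_eq_true hPe
  exact ⟨P, hP, h10 ▸ ok_packOf g, by rw [← h10, el_packOf]⟩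

end Cfsg.Agent.KFacts.M24Pair.Cent
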