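import Cfsg.Agent.KFacts.M24Pair.Letters

/-!
# Double centralizers `C_K(C_K(u, v))` of the fifteen pairs of root involutions of the sextet
  group of `K = M24`

`dc_ij_kl`: an element commuting with `C_K(X i j, X k l)` is one of the words of the list (numbers
  of letters as in
`Letters`: `12 13 14 15 23 24 25 34 35 45 = 0 … 9`).
-/

set_option autoImplicit false
set_option Elab.async false

namespace Cfsg.Agent.KFacts.M24Pair.Pairs

open Cfsg Cfsg.Agent.KFacts.M24Pair.Cent Cfsg.Agent.KFacts.M24Pair.Letters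

/-- `|C_K(X14, X24)| = 1536`, double centralizer of order 4 -/
theorem dc_14_24 (g : M24) (hg : ∀ c : M24, (∀ r ∈ [2, 5], c * xx r = xx r * c) → c * g = g * c) :
    ∃ w ∈ ([[], [2], [5], [2, 5]] : List (List ℕ)), g = ev w :=
  dcent (rs := [2, 5])
    (cs := [55304136311909640904730284063359074, 52825043126367379332794399243537975,
      221550000398041140433562809009233347])
    (data := [(17, [[0], [1, 0, 1, 1]]), (4, [[0], [1, 1]]), (7, [[0, 1]])])
    (wd := [(0, [1]), (0, [0, 1, 1]), (0, [2]), (0, [2, 1]), (1, []), (0, [2, 1, 1]), (2, [0, 0]),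
      (2, []), (1, [0, 2, 1]), (1, [1]), (1, [1, 0, 2, 1]), (2, [2]), (2, [2, 0]), (2, [1, 0]),
      (0, [2, 0, 1, 1]), (2, [0]), (2, [1]), (0, []), (1, [2]), (1, [2, 1]), (2, [1, 2]), (1, [0,
      2]), (1, [1, 0, 2]), (0, [1, 1])])
    (by decide +kernel) (by decide +kernel) g hg

/-- `|C_K(X14, X34)| = 1536`, double centralizer of order 4 -/
theorem dc_14_34 (g : M24) (hg : ∀ c : M24, (∀ r ∈ [2, 7], c * xx r = xx r * c) → c * g = g * c) :
    ∃ w ∈ ([[], [2], [7], [2, 7]] : List (List ℕ)), g = ev w :=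
  dcent (rs := [2, 7])
    (cs := [361805428277256837041199500183110242, 595395404724668814097399257030510739,
      445571626547293446331232826825581572])
    (data := [(19, [[0, 2]]), (21, [[1], [2, 2]]), (6, [[1, 0]])])
    (wd := [(0, [2, 2]), (0, [2]), (0, [2, 0]), (1, [0, 2]), (0, [1, 2]), (0, [0]), (2, []), (2,
      [0, 0]), (1, [2]), (0, [1, 0]), (1, [2, 0]), (2, [2]), (2, [1]), (2, [0]), (1, [1, 0]), (2,
      [1, 1]), (2, [0, 1]), (1, [0, 1, 0]), (0, [0, 0]), (0, []), (2, [0, 0, 0]), (1, []), (1, [1,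
      2, 0]), (1, [0])])
    (by decide +kernel) (by decide +kernel) g hg

/-- `|C_K(X14, X15)| = 1536`, double centralizer of order 4 -/
theorem dc_14_15 (g : M24) (hg : ∀ c : M24, (∀ r ∈ [2, 3], c * xx r = xx r * c) → c * g = g * c) :
    ∃ w ∈ ([[], [2], [3], [2, 3]] : List (List ℕ)), g = ev w :=
  dcent (rs := [2, 3])
    (cs := [802554668251051511072699742766587427, 876785257613687273634587780546040833,
      18314632312124139596489460217352809])
    (data := [(9, [[1]]), (7, [[0], [1, 2]])])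
    (wd := [(0, [1, 0]), (0, [0]), (0, [1, 2, 0, 0]), (0, [0, 1, 0]), (0, [0, 0, 0]), (0, [2, 0,
      0]), (1, [0, 1]), (1, []), (0, [2]), (0, []), (0, [0, 1, 0, 0]), (1, [1, 1]), (1, [2]), (1,
      [2, 1, 1]), (0, [1, 0, 2]), (1, [1]), (1, [2, 0, 1]), (0, [0, 0]), (0, [2, 2, 0, 0]), (0,
      [2, 0]), (1, [2, 1]), (0, [0, 2]), (0, [1, 0, 0]), (0, [2, 2])])
    (by decide +kernel) (by decide +kernel) g hg

/-- `|C_K(X14, X25)| = 256`, double centralizer of order 16 -/
theorem dc_14_25 (g : M24) (hg : ∀ c : M24, (∀ r ∈ [2, 6], c * xx r = xx r * c) → c * g = g * c) :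
    ∃ w ∈ ([[], [2], [3], [5], [6], [2, 3], [2, 5], [2, 6], [3, 6], [5, 3], [5, 6], [2, 3, 6], [2,
      5, 3], [2, 5, 6], [5, 3, 6], [2, 5, 3, 6]] : List (List ℕ)), g = ev w :=
  dcent (rs := [2, 6])
    (cs := [587517099081542235959418224932062277, 734314006698834082329304983377741856,
      231447989518859766728274234199543255, 13313603386121538832581796834643415])
    (data := [(0, [[1], [0, 0]]), (4, [[1], [3, 0, 0]]), (7, [[2]])])
    (wd := [(0, []), (0, [3, 0, 2]), (0, [2, 0, 2]), (0, [0, 2, 0]), (1, []), (0, [0]), (2, [1,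
      0]), (2, []), (1, [1, 0]), (1, [3]), (1, [0]), (2, [0, 0]), (2, [0]), (2, [0, 1]), (0, [0,
      2]), (2, [3]), (2, [3, 0]), (0, [2, 0]), (1, [0, 1, 0]), (1, [2, 0]), (2, [1]), (1, [3, 1,
      0]), (1, [3, 0]), (0, [2])])
    (by decide +kernel) (by decide +kernel) g hg

/-- `|C_K(X14, X35)| = 256`, double centralizer of order 16 -/
theorem dc_14_35 (g : M24) (hg : ∀ c : M24, (∀ r ∈ [2, 8], c * xx r = xx r * c) → c * g = g * c) :
    ∃ w ∈ ([[], [2], [3], [7], [8], [2, 3], [2, 7], [2, 8], [3, 8], [7, 3], [7, 8], [2, 3, 8], [2,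
      7, 3], [2, 7, 8], [7, 3, 8], [2, 7, 3, 8]] : List (List ℕ)), g = ev w :=
  dcent (rs := [2, 8])
    (cs := [419859825746271581900108805936204083, 968697531846493914309070461010542754,
      966198954143347485228559928938038341, 350620917167656781188577361890280517])
    (data := [(0, [[3, 2]]), (3, [[1], [2]]), (11, [[2], [0, 2, 0]])])
    (wd := [(0, []), (0, [2, 1]), (0, [1]), (1, []), (0, [3, 0]), (0, [2]), (2, [3]), (2, [1, 0]),
      (1, [2, 0]), (0, [3, 2, 0]), (1, [1, 0]), (2, []), (2, [3, 1]), (2, [1, 3]), (1, [3, 0]),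
      (2, [3, 0]), (2, [1]), (1, [3, 1, 0]), (0, [2, 0]), (0, [0]), (2, [0]), (1, [3]), (1, [0]),
      (1, [0, 1, 0])])
    (by decide +kernel) (by decide +kernel) g hg

/-- `|C_K(X24, X34)| = 128`, double centralizer of order 8 -/
theorem dc_24_34 (g : M24) (hg : ∀ c : M24, (∀ r ∈ [5, 7], c * xx r = xx r * c) → c * g = g * c) :
    ∃ w ∈ ([[], [2], [5], [7], [2, 5], [2, 7], [5, 7], [2, 5, 7]] : List (List ℕ)), g = ev w :=
  dcent (rs := [5, 7])
    (cs := [983548720921252936276249910206105632, 592822236182319764221558556001342529,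
      735576586691787595084139092932756549, 138464377686185594708082106663928837])
    (data := [(0, [[0], [3, 1], [1, 2]]), (17, [[0], [3]]), (4, [[2], [3, 0]]), (6, [[2, 0], [3,
      1, 0]]), (8, [[2], [3]])])
    (wd := [(0, []), (0, [1]), (0, [1, 1]), (1, [3, 1]), (2, []), (0, [2]), (3, []), (3, [1, 0]),
      (4, []), (2, [1, 0]), (4, [0]), (3, [3, 0]), (3, [1, 3]), (3, [0]), (1, [1, 1]), (3, [3,
      3]), (3, [3]), (1, []), (2, [3]), (2, [0]), (3, [1]), (4, [1, 0]), (4, [3, 0]), (1, [1])])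
    (by decide +kernel) (by decide +kernel) g hg

/-- `|C_K(X24, X15)| = 256`, double centralizer of order 16 -/
theorem dc_24_15 (g : M24) (hg : ∀ c : M24, (∀ r ∈ [5, 3], c * xx r = xx r * c) → c * g = g * c) :
    ∃ w ∈ ([[], [2], [3], [5], [6], [2, 3], [2, 5], [2, 6], [3, 6], [5, 3], [5, 6], [2, 3, 6], [2,
      5, 3], [2, 5, 6], [5, 3, 6], [2, 5, 3, 6]] : List (List ℕ)), g = ev w :=
  dcent (rs := [5, 3])
    (cs := [54851603042850529168371510442909219, 734325377188937150002263448610078882,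
      47516231423943683769815067199200803, 218490083647402982823691911264516209])
    (data := [(0, [[0, 1, 0], [2, 1, 0]]), (4, [[0, 0], [3, 0]]), (6, [[2]])])
    (wd := [(0, []), (0, [3, 0]), (0, [1]), (0, [0]), (1, []), (0, [0, 0]), (2, []), (2, [1, 0]),
      (1, [2, 1]), (1, [1]), (1, [2, 0]), (2, [0]), (2, [0, 1, 3]), (2, [1]), (0, [1, 0]), (2, [0,
      1, 0]), (2, [1, 3]), (0, [3]), (1, [0]), (1, [1, 0]), (2, [3]), (1, [2]), (1, [1, 2]), (0,
      [0, 1])])
    (by decide +kernel) (by decide +kernel) g hg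

/-- `|C_K(X24, X25)| = 1536`, double centralizer of order 4 -/
theorem dc_24_25 (g : M24) (hg : ∀ c : M24, (∀ r ∈ [5, 6], c * xx r = xx r * c) → c * g = g * c) :
    ∃ w ∈ ([[], [5], [6], [5, 6]] : List (List ℕ)), g = ev w :=
  dcent (rs := [5, 6])
    (cs := [856177145559813581873271176696448750, 982967457311033500861400341585965542,
      563733438645094872361546140296401264])
    (data := [(14, [[1], [2, 1, 0, 0]]), (19, [[1], [0, 1, 2]])])
    (wd := [(0, [0, 0, 0]), (0, [1, 0]), (0, [1, 1, 2]), (0, [0, 1, 1, 0, 0]), (1, [0, 2]), (0,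
      [1, 1, 0, 0]), (0, [2, 2, 0]), (0, [0]), (1, [2]), (1, [2, 0]), (1, [0, 0, 2]), (0, [1, 0,
      0]), (0, [2]), (0, [0, 0]), (0, []), (0, [1, 1, 0]), (0, [1, 2]), (0, [2, 0]), (1, [0, 0]),
      (1, []), (0, [0, 0, 1, 0]), (1, [0]), (1, [1, 2]), (0, [0, 1, 0])])
    (by decide +kernel) (by decide +kernel) g hg

/-- `|C_K(X24, X35)| = 128`, double centralizer of order 8 -/
theorem dc_24_35 (g : M24) (hg : ∀ c : M24, (∀ r ∈ [5, 8], c * xx r = xx r * c) → c * g = g * c) :
    ∃ w ∈ ([[], [5], [8], [5, 8], [2, 7, 3, 6], [2, 5, 7, 3, 6], [2, 7, 3, 6, 8], [2, 5, 7, 3, 6,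
      8]] : List (List ℕ)), g = ev w :=
  dcent (rs := [5, 8])
    (cs := [966182495608011597979346698634378445, 594856635887919976957034139183789455,
      734318663824161615662852924535936001, 152776707554988253945882190966144205])
    (data := [(0, [[1, 1], [0, 2, 0]]), (3, [[0], [1, 2]]), (9, [[0], [3, 1]]), (7, [[1, 0], [2,
      0]]), (8, [[3], [1, 0]])])
    (wd := [(0, []), (0, [2]), (0, [1, 0]), (1, []), (2, [3]), (0, [0, 0]), (0, [2, 1]), (3, []),
      (4, []), (2, []), (4, [2]), (3, [0, 0]), (0, [2, 0]), (0, [0]), (1, [2]), (0, [1]), (3,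
      [0]), (1, [1]), (2, [1]), (2, [2]), (3, [1]), (4, [0]), (4, [1]), (1, [3])])
    (by decide +kernel) (by decide +kernel) g hg

/-- `|C_K(X34, X15)| = 256`, double centralizer of order 16 -/
theorem dc_34_15 (g : M24) (hg : ∀ c : M24, (∀ r ∈ [7, 3], c * xx r = xx r * c) → c * g = g * c) :
    ∃ w ∈ ([[], [2], [3], [7], [8], [2, 3], [2, 7], [2, 8], [3, 8], [7, 3], [7, 8], [2, 3, 8], [2,
      7, 3], [2, 7, 8], [7, 3, 8], [2, 7, 3, 8]] : List (List ℕ)), g = ev w :=
  dcent (rs := [7, 3])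
    (cs := [336794484953633714140518107177461316, 944406397721449870536123853838816257,
      944409885015653881508317165181538921, 610972264826865994844706741664907426])
    (data := [(0, [[3, 2, 0], [0, 3, 0]]), (21, [[3], [2, 1]]), (16, [[0]])])
    (wd := [(0, []), (0, [1]), (0, [3]), (1, [3, 1]), (0, [0]), (0, [0, 0]), (2, [1]), (2, [2, 1,
      0, 1]), (1, [1, 0]), (0, [2]), (1, [0, 1]), (2, [1, 0, 1]), (2, [0, 1]), (2, [2, 1]), (1,
      [0]), (2, [2, 0, 1]), (2, []), (1, [1]), (0, [1, 0]), (0, [3, 0]), (2, [2]), (1, []), (1,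
      [0, 0]), (1, [3, 0])])
    (by decide +kernel) (by decide +kernel) g hg

/-- `|C_K(X34, X25)| = 128`, double centralizer of order 8 -/
theorem dc_34_25 (g : M24) (hg : ∀ c : M24, (∀ r ∈ [7, 6], c * xx r = xx r * c) → c * g = g * c) :
    ∃ w ∈ ([[], [6], [7], [7, 6], [2, 5, 3, 8], [2, 5, 3, 6, 8], [2, 5, 7, 3, 8], [2, 5, 7, 3, 6,
      8]] : List (List ℕ)), g = ev w :=
  dcent (rs := [7, 6])
    (cs := [137935104962206912083219455161370656, 592353204691533442233142632973374465,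
      719464747206367237783151874179580551, 984801159719152230658484461055870021])
    (data := [(7, [[1], [2, 2, 0]]), (3, [[3], [0, 2], [2, 1, 0]]), (18, [[0], [2]]), (6, [[1],
      [2]]), (21, [[3], [2, 1]])])
    (wd := [(0, [2, 0]), (0, [3, 2]), (0, [2]), (1, []), (2, [1]), (0, [1, 2]), (3, []), (0, []),
      (4, [0]), (2, [3]), (4, [1]), (0, [3, 0]), (3, [3]), (3, [3, 0]), (1, [1, 0]), (3, [0]), (0,
      [0]), (1, [1]), (2, []), (2, [3, 1]), (0, [3]), (4, []), (4, [1, 0]), (1, [0])])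
    (by decide +kernel) (by decide +kernel) g hg

/-- `|C_K(X34, X35)| = 1536`, double centralizer of order 4 -/
theorem dc_34_35 (g : M24) (hg : ∀ c : M24, (∀ r ∈ [7, 8], c * xx r = xx r * c) → c * g = g * c) :
    ∃ w ∈ ([[], [7], [8], [7, 8]] : List (List ℕ)), g = ev w :=
  dcent (rs := [7, 8])
    (cs := [876776955993639419800773722633414212, 445830260883764155832522319913989612,
      890608987417978284818216038277841058])
    (data := [(4, [[2]]), (3, [[1, 0], [2, 1]])])
    (wd := [(0, [0, 0, 0]), (0, [0]), (0, [2, 0, 0, 0]), (1, []), (0, []), (0, [2, 0]), (0, [0, 1,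
      0]), (0, [1, 0, 1, 0]), (1, [0]), (0, [0, 2, 0, 0, 0]), (1, [1, 2, 0]), (0, [2, 0, 1, 0]),
      (0, [1, 0, 0, 0]), (0, [2, 1, 1, 0]), (1, [0, 1]), (0, [1, 0]), (0, [1, 1, 0]), (1, [0, 0]),
      (0, [0, 0]), (0, [0, 2, 0]), (0, [2, 1, 0]), (1, [1]), (1, [0, 0, 0]), (1, [2, 0])])
    (by decide +kernel) (by decide +kernel) g hg

/-- `|C_K(X15, X25)| = 1536`, double centralizer of order 4 -/
theorem dc_15_25 (g : M24) (hg : ∀ c : M24, (∀ r ∈ [3, 6], c * xx r = xx r * c) → c * g = g * c) :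
    ∃ w ∈ ([[], [3], [6], [3, 6]] : List (List ℕ)), g = ev w :=
  dcent (rs := [3, 6])
    (cs := [979625500157097319740311687591380037, 106863708295434224693031718741391392,
      137935104962206912083219455161370656])
    (data := [(0, [[1], [0, 0, 2, 0]]), (10, [[0], [1, 1]]), (20, [[0], [1, 2]])])
    (wd := [(0, []), (0, [0, 1, 0, 0]), (0, [1, 1, 0]), (0, [0, 0]), (1, [0, 2, 1]), (0, [0]), (2,
      [1, 1]), (2, [1, 0, 0, 1]), (1, [2, 1]), (1, [0, 0, 2]), (1, []), (2, [2]), (2, [1]), (2,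
      [2, 1]), (0, [2, 1, 0, 0]), (2, [0, 1]), (2, [0, 0, 1]), (0, [1, 0, 0]), (1, [0, 2]), (1,
      [0, 0, 2, 1]), (2, []), (1, [1]), (1, [2]), (0, [1, 0])])
    (by decide +kernel) (by decide +kernel) g hg

/-- `|C_K(X15, X35)| = 1536`, double centralizer of order 4 -/
theorem dc_15_35 (g : M24) (hg : ∀ c : M24, (∀ r ∈ [3, 8], c * xx r = xx r * c) → c * g = g * c) :
    ∃ w ∈ ([[], [3], [8], [3, 8]] : List (List ℕ)), g = ev w :=
  dcent (rs := [3, 8])
    (cs := [735129678848087916392418301325331049, 362305407782009255426547152437182533,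
      883632495122774236216322106419873385])
    (data := [(0, [[2, 1], [2, 0, 0]]), (8, [[0], [2, 2]]), (6, [[1], [0, 0]])])
    (wd := [(0, []), (0, [1, 1]), (0, [2, 1, 0]), (1, [0, 1]), (0, [1, 0]), (0, [1]), (2, []), (2,
      [0, 2]), (1, []), (0, [0]), (1, [2, 1]), (2, [2, 2]), (2, [2, 2, 2]), (2, [0]), (1, [1]),
      (2, [2, 0, 2]), (2, [2]), (1, [2, 0, 1]), (0, [2, 0]), (0, [1, 1, 0]), (2, [2, 0]), (1, [0,
      2, 1]), (1, [2]), (1, [1, 2])])
    (by decide +kernel) (by decide +kernel) g hg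

/-- `|C_K(X25, X35)| = 128`, double centralizer of order 8 -/
theorem dc_25_35 (g : M24) (hg : ∀ c : M24, (∀ r ∈ [6, 8], c * xx r = xx r * c) → c * g = g * c) :
    ∃ w ∈ ([[], [3], [6], [8], [3, 6], [3, 8], [6, 8], [3, 6, 8]] : List (List ℕ)), g = ev w :=
  dcent (rs := [6, 8])
    (cs := [592790562009131377257278574663141377, 152793237658588775470751665693103105,
      717408221806189502441306310090391621, 966627407121561417643508553876013125])
    (data := [(0, [[1, 0], [3, 2, 0]]), (23, [[3], [2, 1]]), (4, [[0], [1]]), (16, [[1], [3, 0]]),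
      (10, [[0], [2], [3]])])
    (wd := [(0, []), (0, [0]), (0, [2, 0]), (1, [1]), (2, []), (0, [2]), (3, [0]), (3, [0, 2]),
      (4, [1]), (2, [0, 3]), (4, []), (3, [2, 2]), (3, [2]), (3, [3]), (1, [0]), (3, [1, 2]), (3,
      []), (1, [2]), (2, [3, 3]), (2, [3]), (3, [2, 0]), (4, [1, 0, 1]), (4, [0, 1]), (1, [])])
    (by decide +kernel) (by decide +kernel) g hg

end Cfsg.Agent.KFacts.M24Pair.Pairs
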