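import Cfsg.Agent.KFacts.M24Pair.Fix
import Cfsg.Agent.KFacts.M24Pair.Pairs
import Cfsg.Agent.OddHalf.M24.Defs

/-!
# `FactsQ` for `X = Cfsg.M24`

`z = X15`, `E = ⟨X12, X13, X14, X15⟩`, `E' = ⟨X21, X23, X24, X25⟩`, `V = ⟨X23, X24, X25⟩`, `r = X24`, `s = X35`,
`w = X34`, `w' = X35` (letters of `M24Pair.Letters`).
-/

set_option autoImplicit false
set_option Elab.async false

namespace Cfsg.Agent.KFacts.M24Pair.FactsQ

open Cfsg Cfsg.Agent.SporadicA.GolayBase Cfsg.Agent.SporadicA.GolayPerm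
open Cfsg.Agent.SporadicStructure.M24El Cfsg.Agent.KFacts.M24Pair.Cent
open Cfsg.Agent.KFacts.M24Pair.Letters Cfsg.Agent.KFacts.M24Pair.Sub
open Cfsg.Agent.KFacts.M24Pair.TrioQ Cfsg.Agent.KFacts.M24Pair.Fix
open Cfsg.Agent.OddHalf.M24

/-! ### Transvections on `E` -/

/-- `Tv` without the elements `c` of (K3). -/
structure T0 {X : Type*} [Group X] (z : X) (E : Subgroup X) (w : X) : Prop where
  wC : w ∈ Cl z
  wE : w ∉ E
  nor : ∀ e ∈ E, w * e * w⁻¹ ∈ E
  tv : ∃ a ∈ E, a ≠ 1 ∧ w * a = a * w ∧ (∀ e ∈ E, w * e = e * w ∨ w * e * w⁻¹ = e * a) ∧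
    ∃ e ∈ E, w * e * w⁻¹ = e * a
  k3 : ∀ q, q * q = 1 → (∀ e ∈ E, w * e = e * w → q * e = e * q) → q * w = w * q ∨ q ∈ E

theorem T0.toTv {X : Type*} [Group X] {z : X} {E : Subgroup X} {w : X} (h : T0 z E w) :
    Tv z E w :=
  ⟨h.wC, h.wE, h.nor, h.tv, fun q h1 h2 _ => h.k3 q h1 h2⟩

theorem T0.conj {X : Type*} [Group X] {z : X} {E : Subgroup X} {w : X} (h : T0 z E w) {k : X}
    (hk : ∀ e ∈ E, k * e * k⁻¹ ∈ E) (hk' : ∀ e ∈ E, k⁻¹ * e * k ∈ E) :
    T0 z E (k * w * k⁻¹) where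
  wC := by
    obtain ⟨c, hc⟩ := h.wC
    exact ⟨k * c, by rw [← hc]; group⟩
  wE hE := h.wE (by
    have h1 := hk' _ hE
    have h2 : k⁻¹ * (k * w * k⁻¹) * k = w := by group
    rwa [h2] at h1)
  nor e he := by
    have h1 := hk _ (h.nor _ (hk' e he))
    have h2 : k * (w * (k⁻¹ * e * k) * w⁻¹) * k⁻¹ = k * w * k⁻¹ * e * (k * w * k⁻¹)⁻¹ := by group
    rwa [h2] at h1
  tv := by
    obtain ⟨a, ha, ha1, hwa, h1, e, he, hee⟩ := h.tv
    refine ⟨k * a * k⁻¹, hk a ha, ?_, ?_, ?_, k * e * k⁻¹, hk e he, ?_⟩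
    · intro h2
      exact ha1 (by
        have h3 : a = k⁻¹ * (k * a * k⁻¹) * k := by group
        rw [h3, h2]
        group)
    · have h2 : k * w * k⁻¹ * (k * a * k⁻¹) = k * (w * a) * k⁻¹ := by group
      rw [h2, hwa]
      group
    · intro e he
      rcases h1 _ (hk' e he) with h2 | h2
      · left
        have h3 : k * w * k⁻¹ * e = k * (w * (k⁻¹ * e * k)) * k⁻¹ := by group
        rw [h3, h2]
        group
      · right
        have h3 : k * w * k⁻¹ * e * (k * w * k⁻¹)⁻¹ = k * (w * (k⁻¹ * e * k) * w⁻¹) * k⁻¹ := by group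
        rw [h3, h2]
        group
    · have h3 : k * w * k⁻¹ * (k * e * k⁻¹) * (k * w * k⁻¹)⁻¹ = k * (w * e * w⁻¹) * k⁻¹ := by group
      rw [h3, hee]
      group
  k3 q hq hc := by
    have hq' : k⁻¹ * q * k * (k⁻¹ * q * k) = 1 := by
      have h1 : k⁻¹ * q * k * (k⁻¹ * q * k) = k⁻¹ * (q * q) * k := by group
      rw [h1, hq]
      group
    rcases h.k3 _ hq' (fun e he hwe => by
      have h1 : k * w * k⁻¹ * (k * e * k⁻¹) = k * e * k⁻¹ * (k * w * k⁻¹) := by
        have h2 : k * w * k⁻¹ * (k * e * k⁻¹) = k * (w * e) * k⁻¹ := by group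
        rw [h2, hwe]
        group
      have h3 := hc _ (hk e he) h1
      have h4 : k⁻¹ * q * k * e = k⁻¹ * (q * (k * e * k⁻¹)) * k := by group
      rw [h4, h3]
      group) with h1 | h1
    · left
      have h2 : q * (k * w * k⁻¹) = k * (k⁻¹ * q * k * w) * k⁻¹ := by group
      rw [h2, h1]
      group
    · right
      have h2 := hk _ h1
      have h3 : k * (k⁻¹ * q * k) * k⁻¹ = q := by group
      rwa [h3] at h2

theorem mem_Cl {g : M24} (h : IsConj (xx 3) g) : g ∈ Cl (xx 3) := isConj_iff.1 h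

theorem isConj_of_mem_Cl {g : M24} (h : g ∈ Cl (xx 3)) : IsConj (xx 3) g := isConj_iff.2 h

theorem xx_ne_one {k : ℕ} (hk : k < 18) : xx k ≠ 1 := by
  have key : ∀ k < 18, (List.range 24).any (fun i =>
      !(Nat.beq (papp (prodW gx [k]) i) (papp (prodW gx []) i))) = true := by decide +kernel
  have h := wne (key k hk)
  rwa [ev_cons, ev_nil, mul_one] at h

theorem tv5_tab : ∀ u ∈ subs [0,1,2,3],
    weqb (5 :: u) (u ++ [5]) = true ∨ weqb (5 :: u) (u ++ [2, 5]) = true := by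
  decide +kernel

theorem sq_tab : ∀ u ∈ subs [0,1,2,3], ∀ v ∈ subs [4,5,6], v = [] ∨ 0 ∉ u ∨
    Nat.beq (can (prodW gx (u ++ v ++ (u ++ v)))) (can (prodW gx [])) = false := by
  decide +kernel

theorem V5_tab : ∀ v ∈ subs [4,5,6], weqb (v ++ [5]) (5 :: v) = true := by decide +kernel

theorem t0_X24 : T0 (xx 3) (gen [0,1,2,3]) (xx 5) where
  wC := mem_Cl (V_conj_z (xx_mem (by decide)) (xx_ne_one (by norm_num)))
  wE h := xx_ne_one (k := 5) (by norm_num) (eq_one_of_mem h (xx_mem (by decide)))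
  nor e he := V_norm (xx_mem (by decide)) he
  tv := by
    refine ⟨xx 2, xx_mem (by decide), xx_ne_one (by norm_num), ?_, ?_, xx 0, xx_mem (by decide), ?_⟩
    · have h := weq (u := [5, 2]) (v := [2, 5]) (by decide +kernel)
      simpa only [ev_cons, ev_nil, mul_one] using h
    · intro e he
      obtain ⟨u, hu, rfl⟩ := (mem_gen_iff clo_E e).1 he
      rcases tv5_tab u hu with h | h
      · left
        have h1 := weq h
        rwa [ev_append, ev_cons, ev_cons, ev_nil, mul_one] at h1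
      · right
        have h1 := weq h
        rw [ev_append, ev_cons, ev_cons, ev_cons, ev_nil, mul_one] at h1
        rw [h1]
        group
    · have h := weq (u := [5, 0]) (v := [0, 2, 5]) (by decide +kernel)
      simp only [ev_cons, ev_nil, mul_one] at h
      rw [h]
      group
  k3 q hq hc := by
    have hQ : q ∈ gen [0,1,2,3,4,5,6] := by
      apply mem_Q_of_comm
      intro a ha
      exact hc a (A_le_E ha) (A_comm ha (xx_mem (by decide))).symm
    obtain ⟨u, hu, v, hv, rfl⟩ := exists_words hQ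
    rcases sq_tab u hu v hv with rfl | h | h
    · right
      rw [ev_nil, mul_one]
      exact ev_mem_E hu
    · left
      have hA : ev u ∈ gen [1,2,3] := by
        have h3 := mem_of_mem_subs hu
        refine ev_mem fun k hk => xx_mem ?_
        have h4 := h3 k hk
        have h5 : k ≠ 0 := fun h' => h (h' ▸ hk)
        simp only [List.mem_cons, List.not_mem_nil, or_false] at h4 ⊢
        tauto
      have h1 := weq (V5_tab v hv)
      rw [ev_append, ev_cons, ev_cons, ev_nil, mul_one] at h1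
      rw [mul_assoc, h1, ← mul_assoc, A_comm hA (xx_mem (ls := [0,1,2,3,4,5,6]) (by decide)),
        mul_assoc]
    · exfalso
      rw [← ev_append, ← ev_append, ← ev_nil, ← el_prodW_eq, ← el_prodW_eq] at hq
      rw [can_eq_of_el (ok_prodW gx_ok _) (ok_prodW gx_ok _) hq, Nat.beq_refl] at h
      exact Bool.noConfusion h

/-- reversed inverse words in the letters `< 18` -/
def iv (u : List ℕ) : List ℕ :=
  (u.map fun k => if k = 12 then 13 else if k = 13 then 12 else if k = 14 then 15 else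
    if k = 15 then 14 else k).reverse

/-- the elements of `N(E)` conjugating `X24` to the other transvections -/
def tabT : List (List ℕ × List ℕ) := [([4], [7, 11]), ([5], []), ([6], [15]), ([4, 5], [11]),
  ([4, 6], [15, 11]), ([5, 6], [9]), ([4, 5, 6], [11, 9]), ([8], [15, 4, 10]), ([7], [4, 10])]

theorem tabT_ok : ∀ p ∈ tabT, weqb (p.2 ++ [5]) (p.1 ++ p.2) = true ∧
    nb p.2 [0,1,2,3] [0,1,2,3] = true ∧ nb (iv p.2) [0,1,2,3] [0,1,2,3] = true ∧
      weqb (iv p.2 ++ p.2) [] = true := by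
  decide +kernel

theorem t0_of_tab {p : List ℕ × List ℕ} (hp : p ∈ tabT) : T0 (xx 3) (gen [0,1,2,3]) (ev p.1) := by
  obtain ⟨h1, h2, h3, h4⟩ := tabT_ok p hp
  have h5 := weq h1
  rw [ev_append, ev_append, ev_cons, ev_nil, mul_one] at h5
  have h6 := weq h4
  rw [ev_append, ev_nil, mul_eq_one_iff_eq_inv] at h6
  have h7 : ev p.1 = ev p.2 * xx 5 * (ev p.2)⁻¹ := by rw [h5]; group
  rw [h7]
  refine t0_X24.conj (fun e he => conj_mem h2 he) fun e he => ?_
  have h8 := conj_mem h3 he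
  rwa [h6, inv_inv] at h8

/-- `V# ` consists of transvections on `E`. -/
theorem t0_V {v : M24} (hv : v ∈ gen [4,5,6]) (h1 : v ≠ 1) : T0 (xx 3) (gen [0,1,2,3]) v := by
  obtain ⟨u, hu, rfl⟩ := (mem_gen_iff clo_V v).1 hv
  have h : ∀ u ∈ subs [4,5,6], u = [] ∨ u ∈ tabT.map Prod.fst := by decide
  rcases h u hu with rfl | h2
  · exact absurd ev_nil h1
  · obtain ⟨p, hp, rfl⟩ := List.mem_map.1 h2
    exact t0_of_tab hp

theorem ev_single (k : ℕ) : ev [k] = xx k := by rw [ev_cons, ev_nil, mul_one]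

theorem t0_X35 : T0 (xx 3) (gen [0,1,2,3]) (xx 8) := by
  have h := t0_of_tab (p := ([8], [15, 4, 10])) (by decide)
  rwa [ev_single] at h

theorem t0_X34 : T0 (xx 3) (gen [0,1,2,3]) (xx 7) := by
  have h := t0_of_tab (p := ([7], [4, 10])) (by decide)
  rwa [ev_single] at h

/-! ### `FactsQ` -/

theorem EV_eq : gen [0,1,2,3] ⊔ gen [4,5,6] = gen [0,1,2,3,4,5,6] := by
  apply le_antisymm (sup_le E_le_Q V_le_Q)
  refine gen_le fun k hk => ?_
  have h : k ∈ [0,1,2,3] ∨ k ∈ [4,5,6] := by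
    simp only [List.mem_cons, List.not_mem_nil, or_false] at hk ⊢
    omega
  rcases h with h | h
  · exact Subgroup.mem_sup_left (xx_mem h)
  · exact Subgroup.mem_sup_right (xx_mem h)

theorem notMem_Q_tab : ∀ u ∈ ([[7], [8], [7, 8]] : List (List ℕ)), ∀ w ∈ subs [0,1,2,3,4,5,6],
    Nat.beq (can (prodW gx u)) (can (prodW gx w)) = false := by
  decide +kernel

theorem notMem_Q {u : List ℕ} (hu : u ∈ ([[7], [8], [7, 8]] : List (List ℕ))) :
    ev u ∉ gen [0,1,2,3,4,5,6] := by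
  intro h
  obtain ⟨w, hw, h1⟩ := (mem_gen_iff clo_Q _).1 h
  have h2 := notMem_Q_tab u hu w hw
  rw [← el_prodW_eq, ← el_prodW_eq] at h1
  rw [can_eq_of_el (ok_prodW gx_ok _) (ok_prodW gx_ok _) h1, Nat.beq_refl] at h2
  exact Bool.noConfusion h2

/-- Conjugations in both directions. -/
theorem conj_iff {u ls ls' : List ℕ} (h1 : nb u ls ls' = true) (h2 : nb (iv u) ls' ls = true)
    (h3 : weqb (iv u ++ u) [] = true) (x : M24) :
    x ∈ gen ls ↔ ev u * x * (ev u)⁻¹ ∈ gen ls' := by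
  refine ⟨conj_mem h1, fun h => ?_⟩
  have h4 := conj_mem h2 h
  have h6 := weq h3
  rw [ev_append, ev_nil, mul_eq_one_iff_eq_inv] at h6
  have h5 : ev (iv u) * (ev u * x * (ev u)⁻¹) * (ev (iv u))⁻¹ = x := by
    rw [h6]
    group
  rwa [h5] at h4

theorem B2_norm : ∀ k ∈ ([2,3,5,6,7,8] : List ℕ), nb [k] [0,1,2,3] [0,1,2,3] = true := by
  decide +kernel

/-- Words in letters normalising `E` normalise `E`. -/
theorem norm_of_word {w : List ℕ} (hw : ∀ k ∈ w, k ∈ ([2,3,5,6,7,8] : List ℕ)) :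
    ∀ e ∈ gen [0,1,2,3], ev w * e * (ev w)⁻¹ ∈ gen [0,1,2,3] := by
  induction w with
  | nil =>
    intro e he
    rw [ev_nil]
    simpa using he
  | cons k w ih =>
    intro e he
    have h1 := ih (fun l hl => hw l (List.mem_cons_of_mem _ hl)) e he
    have h2 := conj_mem (B2_norm k (hw k List.mem_cons_self)) h1
    rw [ev_single] at h2
    rw [ev_cons]
    have h3 : xx k * ev w * e * (xx k * ev w)⁻¹ = xx k * (ev w * e * (ev w)⁻¹) * (xx k)⁻¹ := by
      group
    rwa [h3]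

/-- **`FactsQ` for `M24`.** -/
theorem factsQ : FactsQ (xx 3) (gen [0,1,2,3]) (gen [16,4,5,6]) (gen [4,5,6]) (xx 5) (xx 8) (xx 7)
    (xx 8) where
  VE' := V_le_E'
  norV e he h := norm_E' he h
  inf v hv hE := eq_one_of_mem hE hv
  tvV v hv h1 := (t0_V hv h1).toTv
  tvr := t0_X24.toTv
  tvs := t0_X35.toTv
  tvw := t0_X34.toTv
  tvw' := t0_X35.toTv
  rs := by
    have h := weq (u := [5, 8]) (v := [8, 5]) (by decide +kernel)
    simpa only [ev_cons, ev_nil, mul_one] using h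
  rsC := by
    have h := weq (u := [16, 10, 12] ++ [3]) (v := [5, 8] ++ [16, 10, 12]) (by decide +kernel)
    rw [ev_append, ev_append, ev_single] at h
    refine ⟨ev [16, 10, 12], ?_⟩
    rw [h, mul_inv_cancel_right, ev_cons, ev_single]
  dcrs x hx := by
    obtain ⟨w, hw, rfl⟩ := Pairs.dc_24_35 x (fun c hc => by
      have h5 := hc 5 (by decide)
      have h8 := hc 8 (by decide)
      exact (hx c h5 h8).symm)
    have h : ∀ w ∈ ([[], [5], [8], [5, 8], [2, 7, 3, 6], [2, 5, 7, 3, 6], [2, 7, 3, 6, 8],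
        [2, 5, 7, 3, 6, 8]] : List (List ℕ)), ∀ k ∈ w, k ∈ ([2,3,5,6,7,8] : List ℕ) := by decide
    exact norm_of_word (h w hw)
  kw := ⟨ev [15, 4, 0, 17], conj_iff (by decide +kernel) (by decide +kernel) (by decide +kernel), by
    have h := weq (u := [15, 4, 0, 17] ++ [7]) (v := [5, 8] ++ [15, 4, 0, 17]) (by decide +kernel)
    rw [ev_append, ev_append, ev_single] at h
    rw [h, mul_inv_cancel_right, ev_cons, ev_single]⟩
  kw' := ⟨ev [4, 0, 17], conj_iff (by decide +kernel) (by decide +kernel) (by decide +kernel), by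
    have h := weq (u := [4, 0, 17] ++ [8]) (v := [5, 8] ++ [4, 0, 17]) (by decide +kernel)
    rw [ev_append, ev_append, ev_single] at h
    rw [h, mul_inv_cancel_right, ev_cons, ev_single]⟩
  norQ k hk e he := by
    rw [EV_eq] at hk
    exact normQ_normE hk he
  conjV c hc hC hE := by
    rw [EV_eq] at hc
    exact fuse_Q hc hE (isConj_of_mem_Cl hC)
  ww' := by
    have h := weq (u := [7, 8]) (v := [8, 7]) (by decide +kernel)
    simpa only [ev_cons, ev_nil, mul_one] using h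
  wQ := by
    rw [EV_eq, ← ev_single]
    exact notMem_Q (by decide)
  w'Q := by
    rw [EV_eq, ← ev_single]
    exact notMem_Q (by decide)
  ww'Q := by
    have h := notMem_Q (u := [7, 8]) (by decide)
    rw [ev_cons, ev_single] at h
    rw [EV_eq]
    exact h

end Cfsg.Agent.KFacts.M24Pair.FactsQ
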