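import Cfsg.Agent.KFacts.M24Pair.TrioQ

/-!
# Elements of `Cfsg.M24` fixing many points; `C_K(A) = Q`

`eq_one_of_sep`: an element fixing the points of the mask `F` is trivial if the octads of a list `sep`, meeting `F` in at
least five points, separate the other points. `mem_Q_of_comm`: the centralizer of `A = ⟨X13, X14, X15⟩` is
`Q = ⟨X12, …, X25⟩` (order `2^7`).
-/

set_option autoImplicit false
set_option Elab.async false

namespace Cfsg.Agent.KFacts.M24Pair.Fix

open Cfsg Cfsg.Agent.SporadicA.GolayBase Cfsg.Agent.SporadicA.GolayPerm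
open Cfsg.Agent.SporadicStructure.M24El Cfsg.Agent.KFacts.M24Pair.Cent
open Cfsg.Agent.KFacts.M24Pair.Letters Cfsg.Agent.KFacts.M24Pair.Sub
open Cfsg.Agent.KFacts.M24Pair.TrioQ
open scoped Pointwise

/-- **Elements fixing many points.** -/
theorem eq_one_of_sep {F : ℕ} {sep : List ℕ}
    (h1 : ∀ m ∈ sep, isCode m = true ∧ popcount m = 8 ∧ 5 ≤ popcount (m &&& F))
    (h2 : ∀ i < 24, ∀ j < 24, F.testBit i = false → F.testBit j = false →
      (∀ m ∈ sep, m.testBit i = m.testBit j) → i = j) {g : M24}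
    (hg : ∀ i < 24, F.testBit i = true → g • pt i = pt i) : g = 1 := by
  set τ : Equiv.Perm GolayPt := (g : Equiv.Perm GolayPt) with hτ
  have hfix : ∀ p ∈ fin F, τ p = p := by
    intro p hp
    rw [mem_fin] at hp
    have h := hg _ (idx_lt p) hp
    rw [pt_idx] at h
    exact h
  have h3 : ∀ m ∈ sep, τ • fin m = fin m := by
    intro m hm
    have h4 := h1 m hm
    have h5 : fin m ∈ octads := (fin_mem_octads_iff (isCode_lt h4.1)).2 ⟨h4.1, h4.2.1⟩
    apply octad_unique ((smul_mem_octads g.2).2 h5) h5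
    have h6 : fin (m &&& F) ⊆ τ • fin m ∩ fin m := by
      rw [fin_and]
      intro p hp
      rw [Finset.mem_inter] at hp ⊢
      refine ⟨?_, hp.1⟩
      rw [← hfix p hp.2]
      exact Finset.smul_mem_smul_finset hp.1
    have h7 := Finset.card_le_card h6
    rw [card_fin] at h7
    exact h4.2.2.trans h7
  have h8 : ∀ p ∈ fin F, (τ p = p) := hfix
  apply Subtype.ext
  ext1 p
  show τ p = p
  by_cases hp : p ∈ fin F
  · exact hfix p hp
  · have hgp : τ p ∉ fin F := by
      intro h
      have := hfix _ h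
      exact hp ((τ.injective this) ▸ h)
    apply idx_injective
    rw [mem_fin] at hp hgp
    apply h2 _ (idx_lt _) _ (idx_lt _) (Bool.eq_false_iff.2 hgp) (Bool.eq_false_iff.2 hp)
    intro m hm
    have h9 := h3 m hm
    rw [Bool.eq_iff_iff, ← mem_fin, ← mem_fin]
    constructor
    · intro h10
      rw [← h9] at h10
      exact (mem_smul_iff τ _ p).1 h10
    · intro h10
      rw [← h9]
      exact (mem_smul_iff τ _ p).2 h10

/-! ### The centralizer of `A` -/

/-- octads meeting `oct` in two points -/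
def sepA : List ℕ := [11010247, 919694, 11163650, 7221256, 9347075, 2605066]

theorem sepA_ok : ∀ m ∈ sepA, isCode m = true ∧ popcount m = 8 ∧ 5 ≤ popcount (m &&& 15615807) := by
  decide +kernel

theorem sepA_sep : ∀ i < 24, ∀ j < 24, Nat.testBit 15615807 i = false →
    Nat.testBit 15615807 j = false → (∀ m ∈ sepA, m.testBit i = m.testBit j) → i = j := by
  decide +kernel

/-- the two orbits of `A` outside the octad -/
def oa : List ℕ := [0, 3, 2, 1, 23, 17, 5, 14]
/-- the second orbit -/
def ob : List ℕ := [4, 8, 9, 18, 21, 22, 19, 10]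

theorem out_or : ∀ i < 24, Nat.testBit 15615807 i = true → i ∈ oa ∨ i ∈ ob := by decide +kernel

theorem oa_tab : ∀ i ∈ oa, ∃ w ∈ subs [1,2,3], Nat.beq (papp (prodW gx w) 0) i = true := by
  decide +kernel

theorem ob_tab : ∀ i ∈ ob, ∃ w ∈ subs [1,2,3], Nat.beq (papp (prodW gx w) 4) i = true := by
  decide +kernel

theorem fix_A : ∀ i < 24, (i ∈ oct ∨ Nat.beq (papp (prodW gx [3]) i) i = false) := by decide +kernel

/-- whether two points lie in the same orbit of `A` -/
def same (c d : ℕ) : Bool := (oa.any (Nat.beq c) && oa.any (Nat.beq d)) ||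
  (ob.any (Nat.beq c) && ob.any (Nat.beq d))

theorem pairs_tab : (out.all fun c => out.all fun d => same c d ||
    ((subs [0,1,2,3,4,5,6]).map fun w => papp (prodW gx w) 0 + 32 * papp (prodW gx w) 4).any
      (Nat.beq (c + 32 * d))) = true := by
  decide +kernel

theorem same_tab : ∀ c < 24, ∀ d < 24, same c d = true → ∃ w ∈ subs [1,2,3],
    Nat.beq (papp (prodW gx w) c) d = true := by
  decide +kernel

/-- **`C_K(A) = Q`.** -/
theorem mem_Q_of_comm {g : M24} (h : ∀ a ∈ gen [1,2,3], g * a = a * g) :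
    g ∈ gen [0,1,2,3,4,5,6] := by
  have hsm : ∀ a ∈ gen [1,2,3], ∀ p : GolayPt, g • a • p = a • g • p := by
    intro a ha p
    rw [← mul_smul, ← mul_smul, h a ha]
  -- `g` preserves `out`
  have hout : ∀ i ∈ out, idx (g • pt i) ∈ out := by
    intro i hi
    have h24 : i < 24 := by
      have : ∀ i ∈ out, i < 24 := by decide
      exact this i hi
    rcases mem_oct_or (idx_lt (g • pt i)) with h1 | h1
    · exfalso
      have h2 := fix_oct (xx_mem (ls := [0,1,2,3]) (k := 3) (by decide)) h1
      rw [pt_idx, ← hsm _ (xx_mem (by decide))] at h2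
      have h3 := MulAction.injective g h2
      have h4 := eq_one_of_fix_out (xx_mem (ls := [0,1,2,3]) (k := 3) (by decide)) hi h3
      have h5 : ev [3] ≠ ev [] := wne (by decide +kernel)
      apply h5
      rw [ev_cons, ev_nil, mul_one, h4]
    · exact h1
  set c := idx (g • pt 0) with hc
  set d := idx (g • pt 4) with hd
  have hc' : g • pt 0 = pt c := (pt_idx _).symm
  have hd' : g • pt 4 = pt d := (pt_idx _).symm
  have hns : same c d = false := by
    by_contra hs
    rw [Bool.not_eq_false] at hs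
    obtain ⟨w, hw, hwe⟩ := same_tab c (idx_lt _) d (idx_lt _) hs
    have hwA : ev w ∈ gen [1,2,3] := (mem_gen_iff clo_A _).2 ⟨w, hw, rfl⟩
    have h1 : ev w • pt c = pt d := by
      apply idx_injective
      rw [idx_ev w (idx_lt _), idx_pt (idx_lt _)]
      exact Nat.eq_of_beq_eq_true hwe
    rw [← hc', ← hd', ← hsm _ hwA] at h1
    have h2 := MulAction.injective g h1
    have h3 : ∀ w ∈ subs [1,2,3], Nat.beq (papp (prodW gx w) 0) 4 = false := by decide +kernel
    have h4 := congrArg idx h2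
    rw [idx_ev w (by norm_num), idx_pt (by norm_num)] at h4
    have h5 := h3 w hw
    rw [h4] at h5
    exact Bool.noConfusion h5
  have hq := List.all_eq_true.1 (List.all_eq_true.1 pairs_tab c (hout 0 (by decide))) d
    (hout 4 (by decide))
  rw [hns, Bool.false_or] at hq
  obtain ⟨y, hy, hye⟩ := List.any_eq_true.1 hq
  obtain ⟨w, hw, rfl⟩ := List.mem_map.1 hy
  have hye := Nat.eq_of_beq_eq_true hye
  have hb1 : papp (prodW gx w) 0 < 24 := papp_lt (ok_iff.1 (ok_prodW gx_ok w)).1 (by norm_num)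
  have hc24 : c < 24 := idx_lt _
  have e1 : papp (prodW gx w) 0 = c := by omega
  have e2 : papp (prodW gx w) 4 = d := by omega
  have hwQ : ev w ∈ gen [0,1,2,3,4,5,6] := (mem_gen_iff clo_Q _).2 ⟨w, hw, rfl⟩
  have hw0 : ev w • pt 0 = g • pt 0 := by
    apply idx_injective
    rw [idx_ev w (by norm_num), e1]
  have hw4 : ev w • pt 4 = g • pt 4 := by
    apply idx_injective
    rw [idx_ev w (by norm_num), e2]
  -- `(ev w)⁻¹ g` fixes all the points of `out`
  have hone : (ev w)⁻¹ * g = 1 := by
    have hcomm : ∀ a ∈ gen [1,2,3], ((ev w)⁻¹ * g) * a = a * ((ev w)⁻¹ * g) := by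
      intro a ha
      have h1 := A_comm ha hwQ
      rw [mul_assoc, h a ha, ← mul_assoc, ← mul_assoc]
      congr 1
      rw [inv_mul_eq_iff_eq_mul, ← mul_assoc, ← h1, mul_inv_cancel_right]
    have hf : ∀ (i₀ i : ℕ), i₀ < 24 → i < 24 → ((ev w)⁻¹ * g) • pt i₀ = pt i₀ →
        (∃ v ∈ subs [1,2,3], Nat.beq (papp (prodW gx v) i₀) i = true) →
        ((ev w)⁻¹ * g) • pt i = pt i := by
      rintro i₀ i hi₀ hi h0 ⟨v, hv, hve⟩
      have h1 : ev v • pt i₀ = pt i := by
        apply idx_injective
        rw [idx_ev v hi₀, idx_pt hi]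
        exact Nat.eq_of_beq_eq_true hve
      rw [← h1, ← mul_smul, hcomm _ ((mem_gen_iff clo_A _).2 ⟨v, hv, rfl⟩), mul_smul, h0]
    refine eq_one_of_sep sepA_ok sepA_sep ?_
    intro i hi hF
    rcases out_or i hi hF with h1 | h1
    · exact hf 0 i (by norm_num) hi (by rw [mul_smul, ← hw0, inv_smul_smul]) (oa_tab i h1)
    · exact hf 4 i (by norm_num) hi (by rw [mul_smul, ← hw4, inv_smul_smul]) (ob_tab i h1)
  rw [inv_mul_eq_one] at hone
  rw [← hone]
  exact hwQ

end Cfsg.Agent.KFacts.M24Pair.Fix
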