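import Cfsg.Agent.KFacts.M24Pair.LQuot
import Cfsg.Agent.OddHalf.D8.SignKill
import Cfsg.Agent.SmallSimple.Simple168Klein
import Cfsg.Agent.SporadicA.M24Trans

/-!
# `GoodL` for `N(Q) / Q = L3(2)` (ODD half, D8, `K = M24`, fact (F))

* `goodL_of_simple`: a simple group of order 168 is `GoodL`;
* `exists_rho`: `R = N(Q)`, `ρ : R → MulAut A` onto with kernel `Q`, `GoodL`, `|M24 : R|` odd.
-/

set_option autoImplicit false
set_option Elab.async false

namespace Cfsg.Agent.KFacts.M24Pair.LGood

open Cfsg Subgroup Cfsg.Agent.OddHalf.D8
open Cfsg.Agent.KFacts.M24Pair.LQuot Cfsg.Agent.KFacts.M24Pair.Sub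
open Cfsg.Agent.KFacts.M24Pair.Letters

theorem orderOf_two {L : Type*} [Group L] {a : L} (h : a * a = 1) (h1 : a ≠ 1) : orderOf a = 2 :=
  orderOf_eq_prime (by rw [pow_two, h]) h1

theorem orderOf_two_iff {L : Type*} [Group L] {a : L} : orderOf a = 2 ↔ a * a = 1 ∧ a ≠ 1 := by
  constructor
  · intro h
    refine ⟨by rw [← pow_two, ← h, pow_orderOf_eq_one], ?_⟩
    rintro rfl
    rw [orderOf_one] at h
    omega
  · rintro ⟨h, h1⟩
    exact orderOf_two h h1

/-- A simple group of order 168. -/
theorem goodL_of_simple {L : Type*} [Group L] [IsSimpleGroup L] (h : Nat.card L = 168) :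
    SignKill.GoodL L where
  perf f l := by
    have : Finite L := Nat.finite_of_card_ne_zero (by rw [h]; norm_num)
    rcases (inferInstance : f.ker.Normal).eq_bot_or_eq_top with h1 | h1
    · exfalso
      have h2 : Function.Injective f := (MonoidHom.ker_eq_bot_iff f).1 h1
      have h3 := Nat.card_le_card_of_injective f h2
      have h4 : Nat.card ℤˣ = 2 := by rw [Nat.card_eq_fintype_card]; rfl
      omega
    · exact MonoidHom.mem_ker.1 (h1 ▸ mem_top l)
  inv := by
    have : Finite L := Nat.finite_of_card_ne_zero (by rw [h]; norm_num)
    have h1 := SmallSimple.Simple168Classes.card_orderOf_two h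
    have h2 : Nat.card {l : L // l * l = 1 ∧ l ≠ 1} = Nat.card {l : L // orderOf l = 2} :=
      Nat.card_congr (Equiv.subtypeEquivRight fun l => orderOf_two_iff.symm)
    rw [h2, h1]
  conj a b ha ha1 hb hb1 := by
    have : Finite L := Nat.finite_of_card_ne_zero (by rw [h]; norm_num)
    exact SmallSimple.Simple168Classes.isConj_of_orderOf_two h a b (orderOf_two ha ha1)
      (orderOf_two hb hb1)
  four a b ha ha1 hb hb1 hab hc := by
    have : Finite L := Nat.finite_of_card_ne_zero (by rw [h]; norm_num)
    have ia : a⁻¹ = a := inv_eq_of_mul_eq_one_left ha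
    have ib : b⁻¹ = b := inv_eq_of_mul_eq_one_left hb
    let U : Subgroup L :=
      { carrier := {x | x = 1 ∨ x = a ∨ x = b ∨ x = a * b}
        one_mem' := Or.inl rfl
        mul_mem' := by
          rintro x y (rfl | rfl | rfl | rfl) (rfl | rfl | rfl | rfl)
          · left; rw [mul_one]
          · right; left; rw [one_mul]
          · right; right; left; rw [one_mul]
          · right; right; right; rw [one_mul]
          · right; left; rw [mul_one]
          · left; exact ha
          · right; right; right; rfl
          · right; right; left; rw [← mul_assoc, ha, one_mul]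
          · right; right; left; rw [mul_one]
          · right; right; right; exact hc.symm
          · left; exact hb
          · right; left; rw [hc, ← mul_assoc, hb, one_mul]
          · right; right; right; rw [mul_one]
          · right; right; left; rw [mul_assoc, ← hc, ← mul_assoc, ha, one_mul]
          · right; left; rw [mul_assoc, hb, mul_one]
          · left
            calc a * b * (a * b) = a * (b * a) * b := by group
              _ = a * (a * b) * b := by rw [hc]
              _ = (a * a) * (b * b) := by group
              _ = 1 := by rw [ha, hb, one_mul]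
        inv_mem' := by
          rintro x (rfl | rfl | rfl | rfl)
          · left; rw [inv_one]
          · right; left; exact ia
          · right; right; left; exact ib
          · right; right; right; rw [mul_inv_rev, ia, ib, hc] }
    have haU : a ∈ U := Or.inr (Or.inl rfl)
    have hbU : b ∈ U := Or.inr (Or.inr (Or.inl rfl))
    have hab1 : a * b ≠ 1 := by
      intro h1
      apply hab
      rw [mul_eq_one_iff_eq_inv.1 h1, ib]
    have habU : a * b ≠ a := fun h1 => hb1 (mul_eq_left.1 h1)
    have habU' : a * b ≠ b := fun h1 => ha1 (mul_eq_right.1 h1)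
    have hcU : Nat.card U = 4 := by
      classical
      have h1 : (U : Set L) = (({1, a, b, a * b} : Finset L) : Set L) := by
        ext x
        simp only [Finset.coe_insert, Finset.coe_singleton, Set.mem_insert_iff,
          Set.mem_singleton_iff]
        rfl
      have h2 : Nat.card U = (U : Set L).ncard := rfl
      rw [h2, h1, Set.ncard_coe_finset]
      rw [Finset.card_insert_of_notMem, Finset.card_insert_of_notMem, Finset.card_insert_of_notMem,
        Finset.card_singleton]
      · rw [Finset.mem_singleton]; exact fun h3 => habU' h3.symm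
      · rw [Finset.mem_insert, Finset.mem_singleton]
        rintro (h3 | h3)
        · exact hab h3
        · exact habU h3.symm
      · rw [Finset.mem_insert, Finset.mem_insert, Finset.mem_singleton]
        rintro (h3 | h3 | h3)
        · exact ha1 h3.symm
        · exact hb1 h3.symm
        · exact hab1 h3.symm
    have hK : IsKleinFour U := by
      refine ⟨hcU, ?_⟩
      have hsq : ∀ x : U, x ^ 2 = 1 := by
        rintro ⟨x, hx⟩
        apply Subtype.ext
        change x ^ 2 = 1
        rw [pow_two]
        rcases hx with rfl | rfl | rfl | rfl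
        · rw [one_mul]
        · exact ha
        · exact hb
        · calc a * b * (a * b) = a * (b * a) * b := by group
            _ = a * (a * b) * b := by rw [hc]
            _ = (a * a) * (b * b) := by group
            _ = 1 := by rw [ha, hb, one_mul]
      have hd : Monoid.exponent U ∣ 2 := Monoid.exponent_dvd_of_forall_pow_eq_one hsq
      rcases (Nat.dvd_prime Nat.prime_two).1 hd with h3 | h3
      · exfalso
        have h4 := Monoid.pow_exponent_eq_one (⟨a, haU⟩ : U)
        rw [h3, pow_one] at h4
        exact ha1 (congrArg Subtype.val h4)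
      · exact h3
    refine ⟨normalizer (U : Set L), ?_, ?_, ?_⟩
    · rw [SmallSimple.Simple168Klein.card_normalizer h hK]
      norm_num
    · intro r hr
      have h1 : r * a * r⁻¹ ∈ U := (mem_normalizer_iff.1 hr a).1 haU
      rcases h1 with h1 | h1
      · exact absurd (conj_eq_one_iff.1 h1) ha1
      · exact h1
    · intro r hr
      have h1 : r * b * r⁻¹ ∈ U := (mem_normalizer_iff.1 hr b).1 hbU
      rcases h1 with h1 | h1
      · exact absurd (conj_eq_one_iff.1 h1) hb1
      · exact h1
  n16 := by rw [h]; norm_num

/-- `|M24 : N(Q)|` is odd. -/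
theorem odd_index : Odd N.index := by
  have h1 := N.card_mul_index
  have hM : Nat.card M24 = 244823040 := Cfsg.Agent.SporadicA.M24Trans.card_M24
  have h2 : Nat.card N = 128 * 168 := by
    have h3 : Nat.card φ.ker * φ.ker.index = Nat.card N := φ.ker.card_mul_index
    have h4 : Nat.card φ.ker = 128 := by
      rw [ker_φ, ← card_Q]
      exact Nat.card_congr (subgroupOfEquivOfLe (le_normalizer (H := Q))).toEquiv
    have h5 : φ.ker.index = 168 := by
      rw [index_ker, range_φ, card_top]
      exact oct_A.card_aut
    rw [← h3, h4, h5]
  rw [h2, hM] at h1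
  have h3 : N.index = 11385 := by omega
  rw [h3]
  decide

/-- **Fact (F).** -/
theorem exists_rho : SignKill.GoodL (MulAut A) ∧ Function.Surjective φ ∧
    (∀ r : N, φ r = 1 ↔ (r : M24) ∈ Q) ∧ Odd N.index := by
  have := oct_A.simple_aut
  exact ⟨goodL_of_simple oct_A.card_aut, φ_surjective,
    fun r => (MonoidHom.mem_ker (f := φ)).symm.trans mem_ker, odd_index⟩

end Cfsg.Agent.KFacts.M24Pair.LGood
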