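import Cfsg.Agent.KFacts.M24Pair.Sub
import Cfsg.Agent.UGT.End.Octad
import Cfsg.Agent.StdL2.G23Aut
import Cfsg.Agent.SmallSimple.Simple168Classes

/-!
# `N(Q) / Q` for `Q = 2^4.2^3 ≤ M24` (ODD half, D8, `K = M24`, fact (F))

`E = ⟨x12, x13, x14, x15⟩`, `V = ⟨x23, x24, x25⟩`, `Q = E V`, `A = ⟨x13, x14, x15⟩ = Z(Q)`.

* `mem_E_of_comm`: `C(E) = E`;
* `norE`: `N(Q) ≤ N(E)`;
* `φ : N(Q) →* MulAut A`, `ker_φ`: the kernel is `Q`, `range_φ`: surjective.
-/

set_option autoImplicit false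
set_option Elab.async false

namespace Cfsg.Agent.KFacts.M24Pair.LQuot

open Cfsg Subgroup Cfsg.Agent.SporadicA.GolayBase Cfsg.Agent.SporadicA.GolayPerm
open Cfsg.Agent.SporadicA.OctadFix
open Cfsg.Agent.SporadicStructure.M24El Cfsg.Agent.KFacts.M24Pair.Cent
open Cfsg.Agent.KFacts.M24Pair.Letters Cfsg.Agent.KFacts.M24Pair.Sub
open scoped Pointwise

/-- the octad group -/
abbrev E : Subgroup M24 := gen [0, 1, 2, 3]

/-- `Z(Q)` -/
abbrev A : Subgroup M24 := gen [1, 2, 3]

abbrev V : Subgroup M24 := gen [4, 5, 6]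

abbrev B : Subgroup M24 := gen [1, 2, 3, 4, 5, 6]

abbrev Q : Subgroup M24 := gen [0, 1, 2, 3, 4, 5, 6]

abbrev N : Subgroup M24 := normalizer (Q : Set M24)

theorem cloE : clo [0, 1, 2, 3] = true := by decide +kernel

theorem cloA : clo [1, 2, 3] = true := by decide +kernel

theorem cloV : clo [4, 5, 6] = true := by decide +kernel

theorem cloB : clo [1, 2, 3, 4, 5, 6] = true := by decide +kernel

theorem cloQ : clo [0, 1, 2, 3, 4, 5, 6] = true := by decide +kernel

theorem cloU : clo [7, 8, 9] = true := by decide +kernel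

theorem card_E : Nat.card E = 16 := card_gen cloE (by decide +kernel)

theorem card_A : Nat.card A = 8 := card_gen cloA (by decide +kernel)

theorem card_B : Nat.card B = 64 := card_gen cloB (by decide +kernel)

theorem card_Q : Nat.card Q = 128 := card_gen cloQ (by decide +kernel)

theorem card_U : Nat.card (gen [7, 8, 9]) = 8 := card_gen cloU (by decide +kernel)

/-! ### `C(E) = E` -/

theorem oct_mem : fin 1161408 ∈ octads := (fin_mem_octads_iff (by norm_num)).2 (by decide +kernel)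

theorem fix_oct : ∀ k < 4, ∀ i < 24, Nat.testBit 1161408 i = true → papp (gx.getD k idP) i = i := by
  decide +kernel

theorem xx_mem_fixOct {k : ℕ} (hk : k < 4) : (xx k : Equiv.Perm GolayPt) ∈ fixOct (fin 1161408) := by
  rw [mem_fixOct]
  refine ⟨(xx k).2, fun x hx => ?_⟩
  rw [mem_fin] at hx
  have h1 := el_smul_pt (ok_getD gx_ok k) x
  rw [fix_oct k hk _ (idx_lt x) hx, pt_idx] at h1
  exact h1

theorem map_E : E.map M24.subtype = fixOct (fin 1161408) := by
  have h1 : E.map M24.subtype ≤ fixOct (fin 1161408) := by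
    rw [map_le_iff_le_comap]
    refine gen_le fun k hk => ?_
    have h2 : ∀ k ∈ [0, 1, 2, 3], k < 4 := by decide
    exact xx_mem_fixOct (h2 k hk)
  have h2 : Finite (fixOct (fin 1161408)) :=
    Nat.finite_of_card_ne_zero (by rw [card_fixOct oct_mem]; norm_num)
  refine Subgroup.eq_of_le_of_card_ge h1 ?_
  rw [card_fixOct oct_mem, card_map_of_injective M24.subtype_injective, card_E]

theorem mem_E_of_comm {g : M24} (h : ∀ e ∈ E, g * e = e * g) : g ∈ E := by
  have h0 : ∀ b ∈ fixOct (fin 1161408), (g : Equiv.Perm GolayPt) * b = b * g := by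
    intro b hb
    rw [← map_E] at hb
    obtain ⟨e, he, rfl⟩ := hb
    exact congrArg Subtype.val (h e he)
  have h1 : (xx 0 : Equiv.Perm GolayPt) ≠ 1 := by
    intro h1
    exact X_ne_one (i := 1) (j := 2) (by norm_num) (Subtype.ext h1)
  have h2 := UGT.End.Octad.stab_of_comm oct_mem (xx_mem_fixOct (k := 0) (by norm_num)) h1
    (h0 _ (xx_mem_fixOct (by norm_num)))
  have h3 := UGT.End.Octad.mem_fixOct_of_comm oct_mem g.2 h2 h0
  rw [← map_E] at h3
  obtain ⟨e, he, h4⟩ := h3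
  rwa [← Subtype.ext h4]

/-! ### `Q` -/

theorem comm_letters {k l : ℕ} (h : weqb [k, l] [l, k] = true) : xx k * xx l = xx l * xx k := by
  have h1 := weq h
  simpa only [ev_cons, ev_nil, mul_one] using h1

/-- Commuting generated subgroups. -/
theorem comm_gen {ls ms : List ℕ} (h : (ls.all fun k => ms.all fun l => weqb [k, l] [l, k]) = true)
    {a b : M24} (ha : a ∈ gen ls) (hb : b ∈ gen ms) : a * b = b * a := by
  have h1 : gen ls ≤ centralizer (gen ms : Set M24) := by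
    refine gen_le fun k hk => ?_
    have h2 : gen ms ≤ centralizer ({xx k} : Set M24) := by
      refine gen_le fun l hl => ?_
      rw [mem_centralizer_singleton_iff]
      exact (comm_letters (List.all_eq_true.1 (List.all_eq_true.1 h k hk) l hl)).symm
    rw [mem_centralizer_iff]
    intro c hc
    exact mem_centralizer_singleton_iff.1 (h2 hc)
  exact (mem_centralizer_iff.1 (h1 ha) b hb).symm

theorem A_comm {a q : M24} (ha : a ∈ A) (hq : q ∈ Q) : a * q = q * a :=
  comm_gen (by decide +kernel) ha hq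

theorem B_comm {a b : M24} (ha : a ∈ B) (hb : b ∈ B) : a * b = b * a :=
  comm_gen (by decide +kernel) ha hb

theorem gen_mono {ls ms : List ℕ} (h : ∀ k ∈ ls, k ∈ ms) : gen ls ≤ gen ms :=
  gen_le fun k hk => xx_mem (h k hk)

theorem EQ : E ≤ Q := gen_mono (by decide)

theorem AE : A ≤ E := gen_mono (by decide)

theorem AQ : A ≤ Q := gen_mono (by decide)

theorem VQ : V ≤ Q := gen_mono (by decide)

theorem BQ : B ≤ Q := gen_mono (by decide)

theorem AB : A ≤ B := gen_mono (by decide)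

theorem VB : V ≤ B := gen_mono (by decide)

theorem E_sup_V : E ⊔ V = Q := by
  apply le_antisymm (sup_le EQ VQ)
  refine gen_le fun k hk => ?_
  have h1 : ∀ k ∈ [0, 1, 2, 3, 4, 5, 6], k ∈ [0, 1, 2, 3] ∨ k ∈ [4, 5, 6] := by decide
  rcases h1 k hk with h | h
  · exact mem_sup_left (xx_mem h)
  · exact mem_sup_right (xx_mem h)

/-- the words differ -/
def wneb (u v : List ℕ) : Bool := (List.range 24).any fun i =>
  !(Nat.beq (papp (prodW gx u) i) (papp (prodW gx v) i))

theorem wneb_false {u v : List ℕ} (h : ev u = ev v) : wneb u v = false := by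
  by_contra h1
  exact wne (Bool.eq_true_of_not_eq_false h1) h

theorem chk_center : ((subs [0, 1, 2, 3, 4, 5, 6]).all fun w =>
    ([0, 1, 2, 3, 4, 5, 6].any fun k => wneb (k :: w) (w ++ [k])) || (subs [1, 2, 3]).contains w) = true := by
  decide +kernel

theorem chk_x12 : ((subs [0, 1, 2, 3, 4, 5, 6]).all fun w =>
    wneb (0 :: w) (w ++ [0]) || (subs [0, 1, 2, 3]).contains w) = true := by
  decide +kernel

theorem chk_inv : ((subs [0, 1, 2, 3, 4, 5, 6]).all fun w =>
    wneb (w ++ w) [] || ((subs [0, 1, 2, 3]).contains w || (subs [1, 2, 3, 4, 5, 6]).contains w)) = true := by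
  decide +kernel

theorem chk_tv : ((subs [1, 2, 3]).all fun w =>
    (subs [4, 5, 6]).any fun v => weqb (v ++ [0]) (0 :: w ++ v)) = true := by
  decide +kernel

theorem chk_E : ((subs [0, 1, 2, 3]).all fun w =>
    (subs [1, 2, 3]).contains w || ((subs [1, 2, 3]).any fun v => w == 0 :: v)) = true := by
  decide +kernel

theorem ev_single (k : ℕ) : ev [k] = xx k := by rw [ev_cons, ev_nil, mul_one]

theorem contains_mem {l : List (List ℕ)} {w : List ℕ} (h : l.contains w = true) : w ∈ l :=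
  List.contains_iff_mem.1 h

/-- `Z(Q) = A` -/
theorem mem_A_of_comm {g : M24} (hg : g ∈ Q) (h : ∀ q ∈ Q, g * q = q * g) : g ∈ A := by
  obtain ⟨w, hw, rfl⟩ := (mem_gen_iff cloQ g).1 hg
  have h1 := List.all_eq_true.1 chk_center w hw
  rw [Bool.or_eq_true] at h1
  rcases h1 with h1 | h1
  · exfalso
    obtain ⟨k, hk, hk1⟩ := List.any_eq_true.1 h1
    have h2 := h (xx k) (xx_mem hk)
    have h3 : ev (k :: w) = ev (w ++ [k]) := by
      rw [ev_append, ev_single, ev_cons, h2]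
    rw [wneb_false h3] at hk1
    exact Bool.noConfusion hk1
  · exact (mem_gen_iff cloA _).2 ⟨w, contains_mem h1, rfl⟩

/-- `C_Q(x12) = E` -/
theorem mem_E_of_comm_x12 {g : M24} (hg : g ∈ Q) (h : g * xx 0 = xx 0 * g) : g ∈ E := by
  obtain ⟨w, hw, rfl⟩ := (mem_gen_iff cloQ g).1 hg
  have h1 := List.all_eq_true.1 chk_x12 w hw
  rw [Bool.or_eq_true] at h1
  rcases h1 with h1 | h1
  · exfalso
    have h3 : ev (0 :: w) = ev (w ++ [0]) := by
      rw [ev_append, ev_single, ev_cons, h]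
    rw [wneb_false h3] at h1
    exact Bool.noConfusion h1
  · exact (mem_gen_iff cloE _).2 ⟨w, contains_mem h1, rfl⟩

/-- involutions of `Q` -/
theorem mem_or_of_sq {g : M24} (hg : g ∈ Q) (h : g * g = 1) : g ∈ E ∨ g ∈ B := by
  obtain ⟨w, hw, rfl⟩ := (mem_gen_iff cloQ g).1 hg
  have h1 := List.all_eq_true.1 chk_inv w hw
  rw [Bool.or_eq_true] at h1
  rcases h1 with h1 | h1
  · exfalso
    have h3 : ev (w ++ w) = ev [] := by
      rw [ev_append, ev_nil, h]
    rw [wneb_false h3] at h1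
    exact Bool.noConfusion h1
  · rw [Bool.or_eq_true] at h1
    rcases h1 with h1 | h1
    · exact Or.inl ((mem_gen_iff cloE _).2 ⟨w, contains_mem h1, rfl⟩)
    · exact Or.inr ((mem_gen_iff cloB _).2 ⟨w, contains_mem h1, rfl⟩)

/-- `[V, x12] = A` -/
theorem exists_v {a : M24} (ha : a ∈ A) : ∃ v ∈ V, v * xx 0 * v⁻¹ = xx 0 * a := by
  obtain ⟨w, hw, rfl⟩ := (mem_gen_iff cloA a).1 ha
  obtain ⟨v, hv, h1⟩ := List.any_eq_true.1 (List.all_eq_true.1 chk_tv w hw)
  refine ⟨ev v, (mem_gen_iff cloV _).2 ⟨v, hv, rfl⟩, ?_⟩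
  have h2 := weq h1
  rw [ev_append, ev_append, ev_single, ev_cons] at h2
  rw [mul_inv_eq_iff_eq_mul, h2]

/-- `E = A ∪ x12 A` -/
theorem mem_E_cases {g : M24} (hg : g ∈ E) : g ∈ A ∨ ∃ a ∈ A, g = xx 0 * a := by
  obtain ⟨w, hw, rfl⟩ := (mem_gen_iff cloE g).1 hg
  have h1 := List.all_eq_true.1 chk_E w hw
  rw [Bool.or_eq_true] at h1
  rcases h1 with h1 | h1
  · exact Or.inl ((mem_gen_iff cloA _).2 ⟨w, contains_mem h1, rfl⟩)
  · obtain ⟨v, hv, h2⟩ := List.any_eq_true.1 h1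
    rw [eq_of_beq h2, ev_cons]
    exact Or.inr ⟨ev v, (mem_gen_iff cloA _).2 ⟨v, hv, rfl⟩, rfl⟩

theorem x12_mem : xx 0 ∈ E := xx_mem (by decide)

theorem x12_not_mem : xx 0 ∉ A := by
  intro h
  have h1 : E ≤ A := by
    refine gen_le fun k hk => ?_
    have h2 : ∀ k ∈ [0, 1, 2, 3], k = 0 ∨ k ∈ [1, 2, 3] := by decide
    rcases h2 k hk with rfl | h2
    · exact h
    · exact xx_mem h2
  have h2 := Subgroup.card_le_of_le h1
  rw [card_E, card_A] at h2
  omega

theorem E_comm {a b : M24} (ha : a ∈ E) (hb : b ∈ E) : a * b = b * a :=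
  comm_gen (by decide +kernel) ha hb

/-! ### `N(Q)` -/

theorem conj_Q {g q : M24} (hg : g ∈ N) (hq : q ∈ Q) : g * q * g⁻¹ ∈ Q :=
  (mem_normalizer_iff.1 hg q).1 hq

theorem conj_A {g a : M24} (hg : g ∈ N) (ha : a ∈ A) : g * a * g⁻¹ ∈ A := by
  refine mem_A_of_comm (conj_Q hg (AQ ha)) fun q hq => ?_
  have h1 : g⁻¹ * q * g ∈ Q := by
    have h2 := conj_Q (inv_mem hg) hq
    rwa [inv_inv] at h2
  have h2 := A_comm ha h1
  calc g * a * g⁻¹ * q = g * (a * (g⁻¹ * q * g)) * g⁻¹ := by group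
    _ = g * ((g⁻¹ * q * g) * a) * g⁻¹ := by rw [h2]
    _ = q * (g * a * g⁻¹) := by group

theorem conj_x12 {g : M24} (hg : g ∈ N) : g * xx 0 * g⁻¹ ∈ E := by
  have hx0 : xx 0 * xx 0 = 1 := xx_sq (by norm_num)
  have h1 : g * xx 0 * g⁻¹ ∈ Q := conj_Q hg (EQ x12_mem)
  have h2 : (g * xx 0 * g⁻¹) * (g * xx 0 * g⁻¹) = 1 := by
    calc (g * xx 0 * g⁻¹) * (g * xx 0 * g⁻¹) = g * (xx 0 * xx 0) * g⁻¹ := by group
      _ = 1 := by rw [hx0, mul_one, mul_inv_cancel]
  rcases mem_or_of_sq h1 h2 with h | h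
  · exact h
  · exfalso
    have h3 : B.map (MulAut.conj g⁻¹).toMonoidHom ≤ E := by
      rintro _ ⟨b, hb, rfl⟩
      change g⁻¹ * b * g⁻¹⁻¹ ∈ E
      apply mem_E_of_comm_x12 (conj_Q (inv_mem hg) (BQ hb))
      have h4 := B_comm hb h
      calc g⁻¹ * b * g⁻¹⁻¹ * xx 0 = g⁻¹ * (b * (g * xx 0 * g⁻¹)) * g := by group
        _ = g⁻¹ * ((g * xx 0 * g⁻¹) * b) * g := by rw [h4]
        _ = xx 0 * (g⁻¹ * b * g⁻¹⁻¹) := by group
    have h4 := Subgroup.card_le_of_le h3
    rw [card_map_of_injective (MulAut.conj g⁻¹).injective, card_B, card_E] at h4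
    omega

/-- `N(Q) ≤ N(E)` -/
theorem norE {g e : M24} (hg : g ∈ N) (he : e ∈ E) : g * e * g⁻¹ ∈ E := by
  rcases mem_E_cases he with h | ⟨a, ha, rfl⟩
  · exact AE (conj_A hg h)
  · have h1 : g * (xx 0 * a) * g⁻¹ = (g * xx 0 * g⁻¹) * (g * a * g⁻¹) := by group
    rw [h1]
    exact mul_mem (conj_x12 hg) (AE (conj_A hg ha))

/-- the elements of `N(Q)` centralising `A` -/
theorem mem_Q_of_comm {g : M24} (hg : g ∈ N) (h : ∀ a ∈ A, g * a = a * g) : g ∈ Q := by
  rcases mem_E_cases (conj_x12 hg) with h1 | ⟨a, ha, h1⟩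
  · exfalso
    apply x12_not_mem
    have h2 := conj_A (inv_mem hg) h1
    have h3 : g⁻¹ * (g * xx 0 * g⁻¹) * g⁻¹⁻¹ = xx 0 := by group
    rwa [h3] at h2
  · obtain ⟨v, hv, h2⟩ := exists_v ha
    have h3 : v⁻¹ * g ∈ E := by
      apply mem_E_of_comm
      have hcA : ∀ c ∈ A, v⁻¹ * g * c = c * (v⁻¹ * g) := by
        intro c hc
        have e1 := A_comm hc (VQ (inv_mem hv))
        rw [mul_assoc, h c hc, ← mul_assoc, ← e1, mul_assoc]
      have h4 : v⁻¹ * g * xx 0 = xx 0 * (v⁻¹ * g) := by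
        have e1 : g * xx 0 = v * xx 0 * v⁻¹ * g := by
          rw [h2, ← h1]; group
        rw [mul_assoc, e1]; group
      intro e he
      rcases mem_E_cases he with he | ⟨c, hc, rfl⟩
      · exact hcA e he
      · rw [← mul_assoc, h4, mul_assoc, hcA c hc, ← mul_assoc]
    have h4 : g = v * (v⁻¹ * g) := by group
    rw [h4]
    exact mul_mem (VQ hv) (EQ h3)

theorem N_le : N ≤ normalizer (A : Set M24) := by
  intro g hg
  rw [mem_normalizer_iff]
  intro a
  constructor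
  · exact conj_A hg
  · intro ha
    have h1 := conj_A (inv_mem hg) ha
    have h3 : g⁻¹ * (g * a * g⁻¹) * g⁻¹⁻¹ = a := by group
    rwa [h3] at h1

/-- The action of `N(Q)` on `A`. -/
def φ : N →* MulAut A := (normalizerMonoidHom A).comp (inclusion N_le)

theorem φ_apply (g : N) (a : A) : ((φ g a : A) : M24) = g * a * (g : M24)⁻¹ := rfl

theorem mem_ker {g : N} : g ∈ φ.ker ↔ (g : M24) ∈ Q := by
  rw [MonoidHom.mem_ker]
  constructor
  · intro h
    apply mem_Q_of_comm g.2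
    intro a ha
    have h1 := φ_apply g ⟨a, ha⟩
    rw [h] at h1
    exact (mul_inv_eq_iff_eq_mul.1 h1.symm)
  · intro h
    apply MulEquiv.ext
    intro a
    apply Subtype.ext
    rw [φ_apply, MulAut.one_apply, mul_inv_eq_iff_eq_mul]
    exact (A_comm a.2 h).symm

theorem ker_φ : φ.ker = Q.subgroupOf N := by
  ext g
  rw [mem_ker, mem_subgroupOf]

theorem oct_A : StdL2.G23Aut.Oct A := by
  refine ⟨card_A, fun v hv => ?_⟩
  obtain ⟨w, hw, rfl⟩ := (mem_gen_iff cloA v).1 hv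
  have h1 : ∀ w ∈ subs [1, 2, 3], weqb (w ++ w) [] = true := by decide +kernel
  have h2 := weq (h1 w hw)
  rwa [ev_append, ev_nil] at h2

/-- letters normalising `Q` -/
theorem mem_N_of {w : List ℕ} (h : ([0, 1, 2, 3, 4, 5, 6].all fun k =>
    (subs [0, 1, 2, 3, 4, 5, 6]).any fun v => weqb (w ++ [k]) (v ++ w)) = true) : ev w ∈ N := by
  have h1 : ∀ q ∈ Q, ev w * q * (ev w)⁻¹ ∈ Q := by
    have h2 : Q ≤ Q.comap (MulAut.conj (ev w)).toMonoidHom := by
      refine gen_le fun k hk => ?_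
      obtain ⟨v, hv, h3⟩ := List.any_eq_true.1 (List.all_eq_true.1 h k hk)
      have h4 := weq h3
      rw [ev_append, ev_append, ev_single] at h4
      change ev w * xx k * (ev w)⁻¹ ∈ Q
      rw [h4, mul_inv_cancel_right]
      exact (mem_gen_iff cloQ _).2 ⟨v, hv, rfl⟩
    exact fun q hq => h2 hq
  have h2 : Q.map (MulAut.conj (ev w)).toMonoidHom = Q := by
    apply Subgroup.eq_of_le_of_card_ge
    · rintro _ ⟨q, hq, rfl⟩
      exact h1 q hq
    · rw [card_map_of_injective (MulAut.conj (ev w)).injective]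
  rw [mem_normalizer_iff]
  intro q
  refine ⟨h1 q, fun hq => ?_⟩
  rw [← h2] at hq
  obtain ⟨q', hq', h3⟩ := hq
  have h4 : q' = q := (MulAut.conj (ev w)).injective h3
  rwa [← h4]

theorem U_le : gen [7, 8, 9] ≤ N := by
  refine gen_le fun k hk => ?_
  have h1 : ∀ k ∈ [7, 8, 9], ([0, 1, 2, 3, 4, 5, 6].all fun j =>
    (subs [0, 1, 2, 3, 4, 5, 6]).any fun v => weqb ([k] ++ [j]) (v ++ [k])) = true := by decide +kernel
  have h2 := mem_N_of (w := [k]) (h1 k hk)
  rwa [ev_single] at h2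

theorem U_inf {g : M24} (h : g ∈ gen [7, 8, 9]) (h2 : g ∈ Q) : g = 1 := by
  obtain ⟨w, hw, rfl⟩ := (mem_gen_iff cloU g).1 h
  by_contra hne
  have h3 : ((subs [7, 8, 9]).all fun w => (w == []) ||
      (subs [0, 1, 2, 3, 4, 5, 6]).all fun v => wneb w v) = true := by decide +kernel
  have h4 := List.all_eq_true.1 h3 w hw
  rw [Bool.or_eq_true] at h4
  rcases h4 with h4 | h4
  · rw [eq_of_beq h4, ev_nil] at hne
    exact hne rfl
  · obtain ⟨v, hv, h5⟩ := (mem_gen_iff cloQ _).1 h2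
    have h6 := List.all_eq_true.1 h4 v hv
    rw [wneb_false h5] at h6
    exact Bool.noConfusion h6

theorem y7_mem : ev [7, 14, 11] ∈ N := mem_N_of (by decide +kernel)

theorem y7_pow : ev [7, 14, 11] ^ 7 = 1 := by
  have h1 := weq (u := [7, 14, 11, 7, 14, 11, 7, 14, 11, 7, 14, 11, 7, 14, 11, 7, 14, 11, 7, 14, 11])
    (v := []) (by decide +kernel)
  rw [ev_nil] at h1
  rw [← h1]
  simp only [ev_cons, ev_nil, mul_one, pow_succ, pow_zero, one_mul, mul_assoc]

theorem y7_not_mem : ev [7, 14, 11] ∉ Q := by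
  intro h
  obtain ⟨v, hv, h5⟩ := (mem_gen_iff cloQ _).1 h
  have h3 : ((subs [0, 1, 2, 3, 4, 5, 6]).all fun v => wneb [7, 14, 11] v) = true := by decide +kernel
  have h6 := List.all_eq_true.1 h3 v hv
  rw [wneb_false h5] at h6
  exact Bool.noConfusion h6

theorem range_φ : φ.range = ⊤ := by
  apply oct_A.eq_top
  · let f : gen [7, 8, 9] →* φ.range := φ.rangeRestrict.comp (inclusion U_le)
    have hf : Function.Injective f := by
      rw [injective_iff_map_eq_one]
      intro g hg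
      have h1 : φ (inclusion U_le g) = 1 := congrArg Subtype.val hg
      have h2 := mem_ker.1 (MonoidHom.mem_ker.2 h1)
      exact Subtype.ext (U_inf g.2 h2)
    rw [← card_U]
    exact Subgroup.card_dvd_of_injective f hf
  · have h1 : orderOf (φ ⟨_, y7_mem⟩) = 7 := by
      apply orderOf_eq_prime
      · rw [← map_pow]
        have h2 : (⟨_, y7_mem⟩ : N) ^ 7 = 1 := Subtype.ext y7_pow
        rw [h2, map_one]
      · intro h2
        exact y7_not_mem (mem_ker.1 (MonoidHom.mem_ker.2 h2))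
    rw [← h1]
    exact Subgroup.orderOf_dvd_natCard φ.range ⟨_, rfl⟩

theorem φ_surjective : Function.Surjective φ := MonoidHom.range_eq_top.1 range_φ

end Cfsg.Agent.KFacts.M24Pair.LQuot
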