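import Cfsg.Agent.KFacts.M24Pair.Cent

/-!
# Root letters of `Cfsg.M24`

`xx k`, `k < 18`: the ten root involutions `X i j` (`1 ≤ i < j ≤ 5`) of a Sylow 2-subgroup of type `UT5(2)` (numbers `0 … 9`
in the order `12 13 14 15 23 24 25 34 35 45`), the opposite root elements `X 3 2 = xx 10`,
`X 4 3 = xx 11`, and the elements `y1 = xx 12`, `y1⁻¹ = xx 13` (of order 3, in a group `S3` with `X 1 2`),
`y2 = xx 14`, `y2⁻¹ = xx 15` (in a group `S3` with `X 4 5`), `X 2 1 = xx 16`, and `xx 17`, the involution
interchanging `X 1 j` and `X 2 j` (`j ≥ 3`) and `X 1 2`, `X 2 1`. All root letters have 8 fixed points (class `2A`),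
`⟨X12, X13, X14, X15⟩` is the octad group `2^4`, `⟨X14, X24, X34, X15, X25, X35⟩` the sextet group `2^6`.
`weq` proves equations between words.
-/

set_option autoImplicit false
set_option Elab.async false

namespace Cfsg.Agent.KFacts.M24Pair.Letters

open Cfsg Cfsg.Agent.SporadicA.GolayBase Cfsg.Agent.SporadicA.GolayPerm
open Cfsg.Agent.SporadicStructure.M24El Cfsg.Agent.KFacts.M24Pair.Cent

/-- The packed letters. -/
def gx : List ℕ := [895331677915748499267375548929943108, 106832945418929216786996674173099555,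
  137946475452688126480473909395947682, 592353204691533442233142632973374465,
  112494624569381642494933542000156195, 154045676456488069852986216677081250,
  610956390715471154959104471240053761, 984806797292990878012365697499365538,
  984812760466102605412385163952886785, 610519923311516637246277765738632224,
  984807527687663223186964578356536900, 112008758482904261652442838286326816,
  563022143052714033828979765320068743, 880623587263303768114318017559799364,
  609223462358287331424896868625257536, 720034795097686229590439021835814048,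
  569410410052268571493238666475056775, 963721886883755259286232606933354528]

theorem gx_ok : ∀ P ∈ gx, ok P = true := by decide +kernel

/-- Letter number `k`. -/
noncomputable def xx (k : ℕ) : M24 := el (gx.getD k idP)

/-- The number of a root letter. -/
def nr (i j : ℕ) : ℕ :=
  ([[], [20, 20, 0, 1, 2, 3], [20, 16, 20, 4, 5, 6], [20, 20, 10, 20, 7, 8], [20, 20, 20, 11, 20, 9]].getD i
    []).getD j 20

/-- The root letters. -/
noncomputable def X (i j : ℕ) : M24 := xx (nr i j)

theorem xx_of_ge {k : ℕ} (h : 18 ≤ k) : xx k = 1 := by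
  unfold xx
  rw [List.getD_eq_default _ _ (by exact h), el_idP]

/-- Value of a word. -/
noncomputable def ev (w : List ℕ) : M24 := (w.map xx).prod

theorem ev_nil : ev [] = 1 := rfl

theorem ev_cons (k : ℕ) (w : List ℕ) : ev (k :: w) = xx k * ev w := List.prod_cons

theorem ev_append (v w : List ℕ) : ev (v ++ w) = ev v * ev w := by
  unfold ev
  rw [List.map_append, List.prod_append]

theorem el_prodW_eq (w : List ℕ) : el (prodW gx w) = ev w := el_prodW gx_ok w

/-- Equality of words. -/
def weqb (u v : List ℕ) : Bool := Nat.beq (prodW gx u) (prodW gx v)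

theorem weq {u v : List ℕ} (h : weqb u v = true) : ev u = ev v := by
  rw [← el_prodW_eq, ← el_prodW_eq, Nat.eq_of_beq_eq_true h]

theorem wne {u v : List ℕ} (h : (List.range 24).any (fun i =>
    !(Nat.beq (papp (prodW gx u) i) (papp (prodW gx v) i))) = true) : ev u ≠ ev v := by
  intro he
  obtain ⟨i, hi, hne⟩ := List.any_eq_true.1 h
  rw [← el_prodW_eq, ← el_prodW_eq] at he
  have h1 : idx (el (prodW gx u) • pt i) = idx (el (prodW gx v) • pt i) := by rw [he]
  rw [idx_el_smul (ok_prodW gx_ok u), idx_el_smul (ok_prodW gx_ok v),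
    idx_pt (List.mem_range.1 hi)] at h1
  rw [h1, Bool.not_eq_true'] at hne
  have := Nat.beq_refl (papp (prodW gx v) i)
  rw [this] at hne
  exact Bool.noConfusion hne

/-! ### Relations -/

/-- the roots -/
def roots : List (ℕ × ℕ) :=
  [(1,2), (1,3), (1,4), (1,5), (2,3), (2,4), (2,5), (3,4), (3,5), (4,5)]

theorem mem_roots_iff {i j : ℕ} : (i, j) ∈ roots ↔ 1 ≤ i ∧ i < j ∧ j ≤ 5 := by
  constructor
  · intro h
    have : ∀ p ∈ roots, 1 ≤ p.1 ∧ p.1 < p.2 ∧ p.2 ≤ 5 := by decide
    exact this _ h
  · rintro ⟨h1, h2, h3⟩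
    have hi : i < 5 := by omega
    interval_cases i <;> interval_cases j <;> decide

theorem xx_sq {k : ℕ} (hk : k < 12) : xx k * xx k = 1 := by
  have key : ∀ k < 12, weqb [k, k] [] = true := by decide +kernel
  have h := weq (key k hk)
  simp only [ev_cons, ev_nil, mul_one] at h
  exact h

theorem y1_inv : xx 12 * xx 13 = 1 := by
  have h := weq (u := [12, 13]) (v := []) (by decide +kernel)
  simpa only [ev_cons, ev_nil, mul_one] using h

theorem y2_inv : xx 14 * xx 15 = 1 := by
  have h := weq (u := [14, 15]) (v := []) (by decide +kernel)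
  simpa only [ev_cons, ev_nil, mul_one] using h

theorem X_sq {i j : ℕ} (h : 1 ≤ i ∧ i < j ∧ j ≤ 5) : X i j * X i j = 1 := by
  have key : ∀ p ∈ roots, nr p.1 p.2 < 12 := by decide
  exact xx_sq (key _ (mem_roots_iff.2 h))

/-- the expected commutator of two roots -/
def cr (p q : ℕ × ℕ) : List ℕ :=
  if p.2 = q.1 then [nr p.1 q.2] else if q.2 = p.1 then [nr q.1 p.2] else []

theorem cr_ok : ∀ p ∈ roots, ∀ q ∈ roots,
    weqb [nr p.1 p.2, nr q.1 q.2] (cr p q ++ [nr q.1 q.2, nr p.1 p.2]) = true := by
  decide +kernel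

/-- The Chevalley relation of two adjacent roots. -/
theorem X_mul {i j k : ℕ} (h1 : 1 ≤ i) (h2 : i < j) (h3 : j < k) (h4 : k ≤ 5) :
    X i j * X j k = X i k * X j k * X i j := by
  have h := weq (cr_ok (i, j) (mem_roots_iff.2 ⟨h1, h2, by omega⟩) (j, k)
    (mem_roots_iff.2 ⟨by omega, h3, h4⟩))
  rw [cr, if_pos rfl] at h
  simp only [ev_append, ev_cons, ev_nil, mul_one] at h
  rw [mul_assoc]
  exact h

/-- The Chevalley relation of two non-adjacent roots. -/
theorem X_comm {i j k l : ℕ} (hij : 1 ≤ i ∧ i < j ∧ j ≤ 5) (hkl : 1 ≤ k ∧ k < l ∧ l ≤ 5)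
    (h1 : j ≠ k) (h2 : l ≠ i) : X i j * X k l = X k l * X i j := by
  have h := weq (cr_ok (i, j) (mem_roots_iff.2 hij) (k, l) (mem_roots_iff.2 hkl))
  rw [cr, if_neg h1, if_neg h2] at h
  simp only [List.nil_append, ev_cons, ev_nil, mul_one] at h
  exact h

theorem X_ne_one {i j : ℕ} (h : 1 ≤ i ∧ i < j ∧ j ≤ 5) : X i j ≠ 1 := by
  have key : ∀ p ∈ roots, (List.range 24).any (fun a => !(Nat.beq (papp (prodW gx [nr p.1 p.2]) a)
      (papp (prodW gx []) a))) = true := by decide +kernel
  have h1 := wne (key _ (mem_roots_iff.2 h))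
  rwa [ev_cons, ev_nil, mul_one] at h1

/-! ### Double centralizers -/

/-- **Double centralizers by computation**: `rs` lists letters, `cs` packed elements commuting with them; an
element commuting with `cs` is a word of `ws`. -/
theorem dcent {rs : List ℕ} {cs : List ℕ} {data : List (ℕ × List (List ℕ))}
    {wd : List (ℕ × List ℕ)} {ws : List (List ℕ)}
    (h1 : chk cs data wd (ws.map (prodW gx)) = true)
    (h2 : (cs.all fun c => rs.all fun r =>
      Nat.beq (pcomp c (gx.getD r idP)) (pcomp (gx.getD r idP) c)) = true)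
    (g : M24) (hg : ∀ c : M24, (∀ r ∈ rs, c * xx r = xx r * c) → c * g = g * c) :
    ∃ w ∈ ws, g = ev w := by
  have hcs : ∀ c ∈ cs, ok c = true := by
    have h3 := h1
    unfold chk at h3
    rw [Bool.and_eq_true, Bool.and_eq_true, Bool.and_eq_true] at h3
    exact fun c hc => List.all_eq_true.1 h3.1.1.1 c hc
  obtain ⟨P, hP, -, he⟩ := mem_of_comm h1 g (fun c hc => hg (el c) fun r hr => by
    have h3 := Nat.eq_of_beq_eq_true (List.all_eq_true.1 (List.all_eq_true.1 h2 c hc) r hr)
    unfold xx
    rw [← el_pcomp (hcs c hc) (ok_getD gx_ok r), h3, el_pcomp (ok_getD gx_ok r) (hcs c hc)])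
  obtain ⟨w, hw, rfl⟩ := List.mem_map.1 hP
  exact ⟨w, hw, by rw [he, el_prodW_eq]⟩

/-- **Centralizers by computation**, of letters. -/
theorem cent {rs : List ℕ} {data : List (ℕ × List (List ℕ))}
    {wd : List (ℕ × List ℕ)} {ws : List (List ℕ)}
    (h1 : chk (rs.map fun r => gx.getD r idP) data wd (ws.map (prodW gx)) = true)
    (g : M24) (hg : ∀ r ∈ rs, xx r * g = g * xx r) : ∃ w ∈ ws, g = ev w := by
  obtain ⟨P, hP, -, he⟩ := mem_of_comm h1 g (fun c hc => by
    obtain ⟨r, hr, rfl⟩ := List.mem_map.1 hc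
    exact hg r hr)
  obtain ⟨w, hw, rfl⟩ := List.mem_map.1 hP
  exact ⟨w, hw, by rw [he, el_prodW_eq]⟩

end Cfsg.Agent.KFacts.M24Pair.Letters
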