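import Cfsg.Agent.KFacts.M24Pair.Letters

/-!
# Subgroups of `Cfsg.M24` consisting of the products of subsets of a list of letters

`gen ls` is the subgroup generated by the letters with number in `ls`. If the check `clo ls` succeeds, it consists of
the words in `subs ls` (`mem_gen_iff`); if moreover `dst ls` succeeds, it has order `2 ^ ls.length` (`card_gen`).
-/

set_option autoImplicit false
set_option Elab.async false

namespace Cfsg.Agent.KFacts.M24Pair.Sub

open Cfsg Cfsg.Agent.SporadicA.GolayBase Cfsg.Agent.SporadicA.GolayPerm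
open Cfsg.Agent.SporadicStructure.M24El Cfsg.Agent.KFacts.M24Pair.Cent
open Cfsg.Agent.KFacts.M24Pair.Letters

/-- The subgroup generated by some letters. -/
def gen (ls : List ℕ) : Subgroup M24 := Subgroup.closure {g | ∃ k ∈ ls, g = xx k}

theorem xx_mem {ls : List ℕ} {k : ℕ} (h : k ∈ ls) : xx k ∈ gen ls :=
  Subgroup.subset_closure ⟨k, h, rfl⟩

theorem ev_mem {K : Subgroup M24} {w : List ℕ} (h : ∀ k ∈ w, xx k ∈ K) : ev w ∈ K := by
  apply K.list_prod_mem
  intro x hx
  obtain ⟨i, hi, rfl⟩ := List.mem_map.1 hx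
  exact h i hi

theorem gen_le {ls : List ℕ} {K : Subgroup M24} (h : ∀ k ∈ ls, xx k ∈ K) : gen ls ≤ K := by
  unfold gen
  rw [Subgroup.closure_le]
  rintro _ ⟨k, hk, rfl⟩
  exact h k hk

/-- The sublists. -/
def subs : List ℕ → List (List ℕ)
  | [] => [[]]
  | a :: l => (subs l).map (fun w => a :: w) ++ subs l

theorem length_subs (l : List ℕ) : (subs l).length = 2 ^ l.length := by
  induction l with
  | nil => rfl
  | cons a l ih =>
    rw [subs, List.length_append, List.length_map, ih, List.length_cons, pow_succ]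
    ring

theorem mem_of_mem_subs {l w : List ℕ} (h : w ∈ subs l) : ∀ k ∈ w, k ∈ l := by
  induction l generalizing w with
  | nil =>
    rw [subs, List.mem_singleton] at h
    subst h
    simp
  | cons a l ih =>
    rw [subs, List.mem_append] at h
    rcases h with h | h
    · obtain ⟨v, hv, rfl⟩ := List.mem_map.1 h
      intro k hk
      rcases List.mem_cons.1 hk with rfl | hk
      · exact List.mem_cons_self
      · exact List.mem_cons_of_mem _ (ih hv k hk)
    · intro k hk
      exact List.mem_cons_of_mem _ (ih h k hk)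

theorem nil_mem_subs (l : List ℕ) : [] ∈ subs l := by
  induction l with
  | nil => exact List.mem_singleton_self _
  | cons a l ih => exact List.mem_append_right _ ih

/-- The check that the words form a subgroup. -/
def clo (ls : List ℕ) : Bool :=
  let V := (subs ls).map (prodW gx)
  (ls.all fun l => weqb [l, l] []) &&
    ls.all fun l => V.all fun P => V.any (Nat.beq (pcomp (gx.getD l idP) P))

theorem mem_gen_iff {ls : List ℕ} (h : clo ls = true) (g : M24) :
    g ∈ gen ls ↔ ∃ w ∈ subs ls, g = ev w := by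
  unfold clo at h
  rw [Bool.and_eq_true] at h
  obtain ⟨hsq, h⟩ := h
  constructor
  · intro hg
    have hstep : ∀ l ∈ ls, ∀ x : M24, (∃ w ∈ subs ls, x = ev w) → ∃ w ∈ subs ls, xx l * x = ev w := by
      rintro l hl x ⟨w, hw, rfl⟩
      have h1 := List.all_eq_true.1 (List.all_eq_true.1 h l hl) (prodW gx w)
        (List.mem_map_of_mem hw)
      obtain ⟨P, hP, hPe⟩ := List.any_eq_true.1 h1
      obtain ⟨v, hv, rfl⟩ := List.mem_map.1 hP
      refine ⟨v, hv, ?_⟩
      rw [← el_prodW_eq v, ← Nat.eq_of_beq_eq_true hPe, el_pcomp (ok_getD gx_ok l)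
        (ok_prodW gx_ok w), el_prodW_eq]
      rfl
    unfold gen at hg
    refine Subgroup.closure_induction_left (p := fun x _ => ∃ w ∈ subs ls, x = ev w) ?_ ?_ ?_ hg
    · exact ⟨[], nil_mem_subs ls, rfl⟩
    · rintro _ ⟨l, hl, rfl⟩ y _ hy
      exact hstep l hl y hy
    · rintro _ ⟨l, hl, rfl⟩ y _ hy
      have h2 := weq (List.all_eq_true.1 hsq l hl)
      simp only [ev_cons, ev_nil, mul_one] at h2
      rw [inv_eq_of_mul_eq_one_left h2]
      exact hstep l hl y hy
  · rintro ⟨w, hw, rfl⟩
    exact ev_mem fun k hk => xx_mem (mem_of_mem_subs hw k hk)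

/-- Canonical packed form. -/
def can (P : ℕ) : ℕ := pcomp P idP

theorem papp_idP : ∀ i < 24, papp idP i = i := by decide +kernel

theorem can_eq_of_el {P Q : ℕ} (hP : ok P = true) (hQ : ok Q = true) (h : el P = el Q) :
    can P = can Q := by
  have h1 : ∀ i < 24, papp P i = papp Q i := by
    intro i hi
    have h2 : idx (el P • pt i) = idx (el Q • pt i) := by rw [h]
    rwa [idx_el_smul hP, idx_el_smul hQ, idx_pt hi] at h2
  unfold can pcomp
  have h3 : ∀ i < 24, papp P (papp idP i) = papp Q (papp idP i) := by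
    intro i hi
    rw [papp_idP i hi]
    exact h1 i hi
  rw [h3 0 (by norm_num), h3 1 (by norm_num), h3 2 (by norm_num), h3 3 (by norm_num),
    h3 4 (by norm_num), h3 5 (by norm_num), h3 6 (by norm_num), h3 7 (by norm_num),
    h3 8 (by norm_num), h3 9 (by norm_num), h3 10 (by norm_num), h3 11 (by norm_num),
    h3 12 (by norm_num), h3 13 (by norm_num), h3 14 (by norm_num), h3 15 (by norm_num),
    h3 16 (by norm_num), h3 17 (by norm_num), h3 18 (by norm_num), h3 19 (by norm_num),
    h3 20 (by norm_num), h3 21 (by norm_num), h3 22 (by norm_num), h3 23 (by norm_num)]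

/-- Distinctness of the entries of a list of numbers. -/
def nodupb : List ℕ → Bool
  | [] => true
  | a :: l => (l.all fun b => !(Nat.beq a b)) && nodupb l

theorem nodup_of_nodupb {l : List ℕ} (h : nodupb l = true) : l.Nodup := by
  induction l with
  | nil => exact List.nodup_nil
  | cons a l ih =>
    rw [nodupb, Bool.and_eq_true] at h
    rw [List.nodup_cons]
    refine ⟨fun ha => ?_, ih h.2⟩
    have h1 := List.all_eq_true.1 h.1 a ha
    rw [Nat.beq_refl] at h1
    exact Bool.noConfusion h1

/-- The check that the words are distinct elements. -/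
def dst (ws : List (List ℕ)) : Bool := nodupb (ws.map fun w => can (prodW gx w))

theorem inj_of_dst {ws : List (List ℕ)} (h : dst ws = true) :
    (ws.map ev).Nodup := by
  have h1 := nodup_of_nodupb h
  have h0 := List.Nodup.of_map _ h1
  rw [List.nodup_map_iff_inj_on h0] at h1 ⊢
  intro x hx y hy hxy
  apply h1 x hx y hy
  apply can_eq_of_el (ok_prodW gx_ok x) (ok_prodW gx_ok y)
  rw [el_prodW_eq, el_prodW_eq, hxy]

theorem card_gen {ls : List ℕ} (h : clo ls = true) (h2 : dst (subs ls) = true) :
    Nat.card (gen ls) = 2 ^ ls.length := by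
  classical
  have h3 := inj_of_dst h2
  have h4 : ((gen ls : Subgroup M24) : Set M24) = (((subs ls).map ev).toFinset : Set M24) := by
    ext g
    rw [SetLike.mem_coe, mem_gen_iff h, Finset.mem_coe, List.mem_toFinset, List.mem_map]
    exact ⟨fun ⟨w, hw, hg⟩ => ⟨w, hw, hg.symm⟩, fun ⟨w, hw, hg⟩ => ⟨w, hw, hg.symm⟩⟩
  have h5 : Nat.card (gen ls) = ((gen ls : Subgroup M24) : Set M24).ncard := rfl
  rw [h5, h4, Set.ncard_coe_finset, List.toFinset_card_of_nodup h3, List.length_map,
    length_subs]

end Cfsg.Agent.KFacts.M24Pair.Sub
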